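import Cfsg.Agent.Lib.Coprime.Hall
import Cfsg.Agent.Lib.Thompson.Cores
import Cfsg.Prelude.Def_Local

/-!
Group-theoretic glue for the coprime action component theorems.
-/

set_option autoImplicit false

namespace Cfsg.Agent.Comp22

open Subgroup
open scoped commutatorElement

variable {G : Type*} [Group G]

/-- An element whose `n`-th power is trivial, for an odd `n`, and of 2-power order is trivial. -/
theorem eq_one_of_pow_of_twoGroup {g : G} {m k : ℕ} (hm : ¬ 2 ∣ m) (h1 : g ^ m = 1)
    (h2 : g ^ (2 ^ k) = 1) : g = 1 := by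
  have hc : Nat.Coprime m (2 ^ k) :=
    (Nat.Coprime.pow_right k ((Nat.prime_two.coprime_iff_not_dvd.mpr hm).symm))
  exact orderOf_eq_one_iff.mp (Nat.eq_one_of_dvd_coprimes hc
    (orderOf_dvd_of_pow_eq_one h1) (orderOf_dvd_of_pow_eq_one h2))

/-- A `p`-subgroup of `J` above a subgroup of index prime to `p` equals it. -/
theorem le_of_isPGroup_of_not_dvd [Finite G] {p : ℕ} [hp : Fact p.Prime] {R Q J : Subgroup G}
    (hRQ : R ≤ Q) (hQJ : Q ≤ J) (hQ : IsPGroup p Q) (h : ¬ p ∣ R.relIndex J) : Q ≤ R := by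
  rw [← relIndex_eq_one]
  obtain ⟨n, hn⟩ := hQ.index (R.subgroupOf Q)
  have hdvd : R.relIndex Q ∣ R.relIndex J :=
    Dvd.intro _ (relIndex_mul_relIndex R Q J hRQ hQJ)
  rcases n with _ | n
  · exact hn
  · exact absurd ((dvd_pow_self p n.succ_ne_zero).trans (hn ▸ hdvd)) h

/-- For a central subgroup `Z`, raising to the index of `Z` is multiplicative, with values in `Z`. -/
theorem pow_index_central [Finite G] {Z : Subgroup G} (hZ : Z ≤ center G) :
    (∀ a b : G, (a * b) ^ Z.index = a ^ Z.index * b ^ Z.index) ∧ ∀ a : G, a ^ Z.index ∈ Z := by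
  have : Z.Normal := ⟨fun z hz g => by
    rw [mem_center_iff.mp (hZ hz) g, mul_inv_cancel_right]; exact hz⟩
  refine ⟨fun a b => ?_, fun a => Z.pow_index_mem a⟩
  rw [← relIndex_mul_index hZ, mul_comm (Z.relIndex (center G)), pow_mul, pow_mul, pow_mul]
  have h := congrArg Subtype.val (map_mul (MonoidHom.transferCenterPow G) a b)
  simp only [Subgroup.coe_mul, MonoidHom.transferCenterPow_apply] at h
  rw [h]
  exact Commute.mul_pow (mem_center_iff.mp ((center G).pow_index_mem b) _) _

/-- A map of a perfect subgroup that is multiplicative with commuting values is trivial. -/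
theorem eq_one_of_perfect {A : Type*} [Group A] {W : Subgroup G} (hW : ⁅W, W⁆ = W)
    (f : W →* A) (hf : ∀ v v' : W, Commute (f v) (f v')) (v : W) : f v = 1 := by
  have h : W ≤ f.ker.map W.subtype := by
    conv_lhs => rw [← hW]
    refine commutator_le.mpr fun a ha b hb => ⟨⁅(⟨a, ha⟩ : W), ⟨b, hb⟩⁆, ?_, rfl⟩
    show f _ = 1
    rw [map_commutatorElement]
    exact commutatorElement_eq_one_iff_commute.mpr (hf _ _)
  obtain ⟨u, hu, e⟩ := h v.2
  rw [← Subtype.ext e]
  exact hu

end Cfsg.Agent.Comp22
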