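import Cfsg.Agent.Comp22.Local
import Cfsg.Agent.Lib.Components.LBalance
import Cfsg.Agent.S3072
import Cfsg.Agent.S0215
import Cfsg.Agent.PF14.Compose

/-!
A perfect group of automorphisms centralising a Sylow 2-subgroup of a group with trivial centre and
core is trivial.
-/

set_option autoImplicit false

namespace Cfsg.Agent.Comp22

open Subgroup
open scoped commutatorElement

universe u

variable {B : Type u} [Group B] [Finite B]

/-- The fusion step: an element `x` of `Γ = L ⊔ ⟨w⟩` normalising `R ∋ w` commutes with `w`. -/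
theorem step_commute {L S W : Subgroup B} [L.Normal] (hW : ⁅W, W⁆ = W)
    (hWS : W ≤ centralizer (S : Set B)) {w : B} (hw : w ∈ W)
    {R : Subgroup ↥(L ⊔ zpowers w)} (hR2 : IsPGroup 2 R)
    (hwR : (⟨w, mem_sup_right (mem_zpowers w)⟩ : ↥(L ⊔ zpowers w)) ∈ R)
    (hRS : R.map (L ⊔ zpowers w).subtype ⊓ L ≤ S)
    (hkey : ∀ c ∈ L.subgroupOf (L ⊔ zpowers w), c ∈ normalizer (R : Set ↥(L ⊔ zpowers w)) →
      c ∈ centralizer ((R ⊓ L.subgroupOf (L ⊔ zpowers w) : Subgroup ↥(L ⊔ zpowers w)) :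
        Set ↥(L ⊔ zpowers w)) → (∃ k : ℕ, c ^ (2 ^ k) = 1) → c ∈ R)
    {x : ↥(L ⊔ zpowers w)} (hx : x ∈ normalizer (R : Set ↥(L ⊔ zpowers w))) :
    (x : B) * w = w * (x : B) := by
  set R' := R.map (L ⊔ zpowers w).subtype with hR'
  set R0 := R' ⊓ L with hR0
  set Cc := L ⊓ centralizer (R0 : Set B) with hCc
  have hCcG : Cc ≤ (L ⊔ zpowers w) := inf_le_left.trans le_sup_left
  have hodd : ¬ 2 ∣ (R'.subgroupOf Cc).index := by
    have h := not_two_dvd_relIndex (L.subgroupOf (L ⊔ zpowers w)) hR2 hkey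
    have e : (L.subgroupOf (L ⊔ zpowers w) ⊓ centralizer
        ((R ⊓ L.subgroupOf (L ⊔ zpowers w) : Subgroup ↥(L ⊔ zpowers w)) : Set ↥(L ⊔ zpowers w))).map (L ⊔ zpowers w).subtype = Cc := by
      ext b
      constructor
      · rintro ⟨y, hy, rfl⟩
        refine mem_inf.mpr ⟨(mem_inf.mp hy).1, mem_centralizer_iff.mpr ?_⟩
        rintro z ⟨⟨r, hr, rfl⟩, hzL⟩
        exact congrArg Subtype.val
          (mem_centralizer_iff.mp (mem_inf.mp hy).2 r (mem_inf.mpr ⟨hr, hzL⟩))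
      · intro hb
        refine ⟨⟨b, hCcG hb⟩, mem_inf.mpr ⟨(mem_inf.mp hb).1,
          mem_centralizer_iff.mpr fun z hz => Subtype.ext ?_⟩, rfl⟩
        exact mem_centralizer_iff.mp (mem_inf.mp hb).2 z
          (mem_inf.mpr ⟨⟨z, (mem_inf.mp hz).1, rfl⟩, (mem_inf.mp hz).2⟩)
    have h2 := relIndex_comap R' (L ⊔ zpowers w).subtype
      (L.subgroupOf (L ⊔ zpowers w) ⊓ centralizer ((R ⊓ L.subgroupOf (L ⊔ zpowers w) : Subgroup ↥(L ⊔ zpowers w)) : Set ↥(L ⊔ zpowers w)))
    rw [hR', comap_map_eq_self_of_injective (L ⊔ zpowers w).subtype_injective, e] at h2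
    rw [h2] at h
    exact h
  have hZc : R'.subgroupOf Cc ≤ center Cc := fun z hz => mem_center_iff.mpr fun c =>
    Subtype.ext ((mem_centralizer_iff.mp (mem_inf.mp c.2).2 z
      (mem_inf.mpr ⟨hz, (mem_inf.mp z.2).1⟩)).symm)
  obtain ⟨hmul, hmem⟩ := pow_index_central hZc
  set m := (R'.subgroupOf Cc).index with hm
  have hWR0 : ∀ v ∈ W, ∀ z ∈ R0, v * z = z * v := fun v hv z hz =>
    (mem_centralizer_iff.mp (hWS hv) z (hRS hz)).symm
  obtain ⟨l, hl, u, hu, hxlu⟩ := Coprime.exists_mul_of_mem_sup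
    (show zpowers w ≤ normalizer (L : Set B) by rw [normalizer_eq_top]; exact le_top) x.2
  have hwR' : w ∈ R' := ⟨_, hwR, rfl⟩
  have huR : u ∈ R' := zpowers_le.mpr hwR' hu
  have hconjx : ∀ z ∈ R', (x : B) * z * (x : B)⁻¹ ∈ R' := by
    rintro _ ⟨r, hr, rfl⟩
    exact ⟨x * r * x⁻¹, (mem_normalizer_iff.mp hx r).mp hr, rfl⟩
  have hlN : ∀ z ∈ R', l * z * l⁻¹ ∈ R' := fun z hz => by
    have := hconjx (u⁻¹ * z * u) (mul_mem (mul_mem (inv_mem huR) hz) huR)
    simpa [hxlu, mul_assoc] using this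
  have hlR0 : ∀ z ∈ R0, l * z * l⁻¹ ∈ R0 := fun z hz =>
    mem_inf.mpr ⟨hlN z (mem_inf.mp hz).1, ‹L.Normal›.conj_mem z (mem_inf.mp hz).2 l⟩
  have hδ : ∀ v : W, l⁻¹ * (v : B) * l * (v : B)⁻¹ ∈ Cc := by
    intro v
    refine mem_inf.mpr ⟨?_, mem_centralizer_iff.mpr fun z hz => ?_⟩
    · simpa [mul_assoc] using mul_mem (L.inv_mem hl) (‹L.Normal›.conj_mem l hl (v : B))
    · have h1 : (v : B)⁻¹ * z = z * (v : B)⁻¹ := hWR0 _ (inv_mem v.2) z hz
      have h2 : (v : B) * (l * z * l⁻¹) = (l * z * l⁻¹) * (v : B) := hWR0 _ v.2 _ (hlR0 z hz)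
      calc z * (l⁻¹ * (v : B) * l * (v : B)⁻¹)
          = l⁻¹ * ((l * z * l⁻¹) * (v : B)) * l * (v : B)⁻¹ := by group
        _ = l⁻¹ * ((v : B) * (l * z * l⁻¹)) * l * (v : B)⁻¹ := by rw [h2]
        _ = l⁻¹ * (v : B) * l * (z * (v : B)⁻¹) := by group
        _ = l⁻¹ * (v : B) * l * ((v : B)⁻¹ * z) := by rw [h1]
        _ = l⁻¹ * (v : B) * l * (v : B)⁻¹ * z := by group
  let δ : W → Cc := fun v => ⟨_, hδ v⟩
  have hcocycle : ∀ v v' : W, δ (v * v') ^ m = δ v ^ m * δ v' ^ m := by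
    intro v v'
    have hc : (v : B) * (δ v' : B) * (v : B)⁻¹ ∈ Cc := by
      have e : (v : B) * (δ v' : B) * (v : B)⁻¹ = (δ v : B)⁻¹ * (δ (v * v') : B) := by
        simp only [δ, Subgroup.coe_mul]; group
      rw [e]
      exact mul_mem (inv_mem (δ v).2) (δ (v * v')).2
    have e1 : δ (v * v') = δ v * ⟨_, hc⟩ := Subtype.ext (by
      simp only [δ, Subgroup.coe_mul]; group)
    rw [e1, hmul]
    congr 1
    refine Subtype.ext ?_
    have hz : ((δ v' ^ m : Cc) : B) ∈ R0 :=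
      mem_inf.mpr ⟨hmem (δ v'), (mem_inf.mp (δ v' ^ m).2).1⟩
    rw [SubmonoidClass.coe_pow] at hz
    rw [SubmonoidClass.coe_pow, SubmonoidClass.coe_pow]
    rw [conj_pow, hWR0 _ v.2 _ hz, mul_inv_cancel_right]
  let ψ : W →* Cc := MonoidHom.mk' (fun v => δ v ^ m) hcocycle
  have hψ := eq_one_of_perfect hW ψ (fun v v' =>
    ((mem_center_iff.mp (hZc (hmem (δ v')))) (δ v ^ m) : _)) ⟨w, hw⟩
  have hd : l⁻¹ * w * l * w⁻¹ ∈ R' := by
    have := mul_mem (hlN w hwR') (inv_mem hwR')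
    have hl' : ∀ z ∈ R', l⁻¹ * z * l ∈ R' := by
      intro z hz
      have h1 := conj_mem_of_mem_normalizer'' (H := R') hlN z hz
      exact h1
    exact mul_mem (hl' w hwR') (inv_mem hwR')
  obtain ⟨k, hk⟩ := (hR2.map (L ⊔ zpowers w).subtype) (⟨_, hd⟩ : R')
  have h1 : (l⁻¹ * w * l * w⁻¹) ^ m = 1 := congrArg Subtype.val hψ
  have h2 := eq_one_of_pow_of_twoGroup hodd h1 (congrArg Subtype.val hk)
  have hlw : w * l = l * w := by
    rw [mul_inv_eq_one] at h2
    calc w * l = l * (l⁻¹ * w * l) := by group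
      _ = l * w := by rw [h2]
  have huw : u * w = w * u := by
    obtain ⟨i, rfl⟩ := mem_zpowers_iff.mp hu
    exact ((Commute.refl w).zpow_left i).eq
  rw [hxlu, mul_assoc, huw, ← mul_assoc, ← hlw, mul_assoc]
where
  conj_mem_of_mem_normalizer'' {H : Subgroup B} {l : B} (h : ∀ z ∈ H, l * z * l⁻¹ ∈ H) :
      ∀ z ∈ H, l⁻¹ * z * l ∈ H := by
    intro z hz
    have hle : H.map (MulAut.conj l).toMonoidHom ≤ H := map_le_iff_le_comap.mpr fun y hy => h y hy
    have heq : H.map (MulAut.conj l).toMonoidHom = H := eq_of_le_of_card_ge hle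
      (le_of_eq (Coprime.card_map_conj l H).symm)
    obtain ⟨y, hy, e⟩ := heq.ge hz
    simp only [MulEquiv.coe_toMonoidHom, MulAut.conj_apply] at e
    rw [← e]
    simpa [mul_assoc] using hy

/-- A perfect subgroup centralising a Sylow 2-subgroup of a normal subgroup `L` with trivial
centraliser and trivial core has no involution. -/
theorem no_involution {L S W : Subgroup B} [L.Normal]
    (hC : centralizer (L : Set B) = ⊥)
    (hO : ∀ M : Subgroup B, M ≤ L → L ≤ normalizer (M : Set B) → Odd (Nat.card M) → M = ⊥)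
    (hSL : S ≤ L) (hS : IsPGroup 2 S) (hSodd : ¬ 2 ∣ S.relIndex L)
    (hW : ⁅W, W⁆ = W) (hWS : W ≤ centralizer (S : Set B))
    {w : B} (hw : w ∈ W) : orderOf w ≠ 2 := by
  intro hw2
  let Γ := L ⊔ zpowers w
  let w' : Γ := ⟨w, mem_sup_right (mem_zpowers w)⟩
  have hT : IsPGroup 2 ↥(zpowers w ⊔ S : Subgroup B) := by
    refine IsPGroup.to_sup_of_normal_right' (IsPGroup.of_card (n := 1) ?_) hS ?_
    · rw [Nat.card_zpowers, hw2, pow_one]
    · exact (zpowers_le.mpr (hWS hw)).trans (centralizer_le_normalizer _)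
  have hTΓ : zpowers w ⊔ S ≤ Γ := sup_le le_sup_right (hSL.trans le_sup_left)
  have hT' : IsPGroup 2 ((zpowers w ⊔ S).subgroupOf Γ) := hT.comap_subtype
  obtain ⟨P, hP⟩ := hT'.exists_le_sylow
  have hwP : w' ∈ (P : Subgroup Γ) := hP (show w ∈ zpowers w ⊔ S from
    mem_sup_left (mem_zpowers w))
  have hPS : (P : Subgroup Γ).map Γ.subtype ⊓ L ≤ S := by
    refine le_of_isPGroup_of_not_dvd (le_inf ?_ hSL) inf_le_right
      ((P.isPGroup'.map _).to_le inf_le_left) hSodd
    intro s hs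
    exact ⟨⟨s, hTΓ (mem_sup_right hs)⟩, hP (show s ∈ zpowers w ⊔ S from mem_sup_right hs), rfl⟩
  have hiso : ∀ g : Γ, g * w' * g⁻¹ ∈ (P : Subgroup Γ) → g * w' * g⁻¹ = w' := by
    intro g hg
    have hwne : w' ≠ 1 := fun h => by
      have h' : w = 1 := congrArg Subtype.val h
      rw [h', orderOf_one] at hw2; omega
    obtain ⟨n, H, X, x, c, y, hc, hy, he, hH⟩ := Cfsg.Agent.S3072.result P {w'}
      (Set.singleton_subset_iff.mpr hwP) ⟨w', rfl, hwne⟩ g⁻¹
      (by rw [Set.image_singleton, Set.singleton_subset_iff, inv_inv]; exact hg)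
    have hprefix : ∀ i ≤ n, ((List.ofFn x).take i).prod * w' = w' * ((List.ofFn x).take i).prod := by
      intro i hi
      induction i with
      | zero => simp
      | succ i ih =>
        have ih' := ih (Nat.le_of_succ_le hi)
        obtain ⟨hHP, hsyl, hcent, hOp, -, ⟨-, hXN, -⟩, hxi, himg⟩ := hH ⟨i, hi⟩
        rw [Set.image_singleton, Set.singleton_subset_iff, SetLike.mem_coe] at himg
        simp only at himg
        rw [mul_assoc, ← ih', inv_mul_cancel_left] at himg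
        obtain ⟨x0, -, hx0⟩ := hxi
        have hxN : x ⟨i, hi⟩ ∈ normalizer (H ⟨i, hi⟩ : Set Γ) := hXN (hx0 ▸ x0.2)
        have hcomm : x ⟨i, hi⟩ * w' = w' * x ⟨i, hi⟩ := Subtype.ext
          (step_commute hW hWS hw (P.isPGroup'.to_le hHP) himg
            ((inf_le_inf_right _ (map_mono hHP)).trans hPS)
            (fun c hcL hcN hcC hc2 => mem_of_centralizes _ P.isPGroup' hHP hsyl hcent hOp
              hcL hcN hcC hc2) hxN)
        rw [List.prod_take_succ _ i (by simpa using hi), List.getElem_ofFn]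
        rw [mul_assoc, hcomm, ← mul_assoc, ih', mul_assoc]
    have hall : (List.ofFn x).prod * w' = w' * (List.ofFn x).prod := by
      have := hprefix n le_rfl
      rwa [List.take_of_length_le (by simp)] at this
    have hycomm : y * w' = w' * y := Subtype.ext
      (step_commute hW hWS hw P.isPGroup' hwP hPS (fun c hcL hcN hcC hc2 => by
        obtain ⟨k, hk⟩ := hc2
        have hQ : IsPGroup 2 ↥(zpowers c ⊔ (P : Subgroup Γ) : Subgroup Γ) := by
          refine IsPGroup.to_sup_of_normal_right' (fun q => ?_) P.isPGroup' (zpowers_le.mpr hcN)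
          obtain ⟨j, hj⟩ := mem_zpowers_iff.mp q.2
          refine ⟨k, Subtype.ext ?_⟩
          rw [SubmonoidClass.coe_pow, ← hj, ← zpow_natCast, ← zpow_mul, mul_comm, zpow_mul,
            zpow_natCast, hk, one_zpow]
          rfl
        rw [← P.is_maximal' hQ le_sup_right]
        exact mem_sup_left (mem_zpowers c)) hy)
    have hcw : c * w' = w' * c := (mem_centralizer_iff.mp hc w' rfl).symm
    have hgw : g⁻¹ * w' = w' * g⁻¹ := by
      rw [he]
      exact ((Commute.mul_left (Commute.mul_left hcw hall) hycomm)).eq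
    rw [mul_assoc, ← hgw, mul_inv_cancel_left]
  have hw'2 : orderOf w' = 2 := by rw [← hw2]; exact (Subgroup.orderOf_coe w').symm
  obtain ⟨N, hNn, hNodd, hN⟩ := Cfsg.Agent.S0215.result P w' hw'2 hwP hiso
  haveI := hNn
  haveI hL'n : (L.subgroupOf Γ).Normal := ‹L.Normal›.subgroupOf Γ
  have hNL : N ⊓ L.subgroupOf Γ = ⊥ := by
    have hM : (N ⊓ L.subgroupOf Γ).map Γ.subtype = ⊥ := by
      refine hO _ (map_le_iff_le_comap.mpr inf_le_right) ?_ ?_
      · refine Coprime.le_normalizer_of_conj_mem fun a ha => ?_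
        rintro _ ⟨z, hz, rfl⟩
        exact ⟨_, (inferInstance : (N ⊓ L.subgroupOf Γ).Normal).conj_mem z hz
          ⟨a, mem_sup_left ha⟩, rfl⟩
      · rw [Nat.card_congr ((N ⊓ L.subgroupOf Γ).equivMapOfInjective Γ.subtype
          Γ.subtype_injective).symm.toEquiv]
        exact hNodd.of_dvd_nat (card_dvd_of_le inf_le_left)
    exact (map_eq_bot_iff_of_injective _ Γ.subtype_injective).mp hM
  have hNtriv : ∀ z ∈ N, z = 1 := fun z hz => by
    have : (z : B) ∈ centralizer (L : Set B) := mem_centralizer_iff.mpr fun a ha =>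
      congrArg Subtype.val (Subgroup.commute_of_normal_of_disjoint _ _ hL'n hNn
        (disjoint_iff.mpr (by rw [inf_comm]; exact hNL)) ⟨a, mem_sup_left ha⟩ z ha hz).eq
    rw [hC, mem_bot] at this
    exact Subtype.ext this
  have : w ∈ centralizer (L : Set B) := mem_centralizer_iff.mpr fun a ha => by
    have h := congrArg Subtype.val (hNtriv _ (hN ⟨a, mem_sup_left ha⟩))
    simp only [Subgroup.coe_mul, InvMemClass.coe_inv, OneMemClass.coe_one] at h
    rw [mul_inv_eq_one, mul_inv_eq_iff_eq_mul] at h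
    exact h.symm
  rw [hC, mem_bot] at this
  rw [this, orderOf_one] at hw2; omega

/-- Such a subgroup is trivial. -/
theorem eq_bot_of_centralizes_sylow {L S W : Subgroup B} [L.Normal]
    (hC : centralizer (L : Set B) = ⊥)
    (hO : ∀ M : Subgroup B, M ≤ L → L ≤ normalizer (M : Set B) → Odd (Nat.card M) → M = ⊥)
    (hSL : S ≤ L) (hS : IsPGroup 2 S) (hSodd : ¬ 2 ∣ S.relIndex L)
    (hW : ⁅W, W⁆ = W) (hWS : W ≤ centralizer (S : Set B)) : W = ⊥ := by
  have hodd : Odd (Nat.card W) := Nat.not_even_iff_odd.mp fun h => by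
    obtain ⟨⟨w, hwW⟩, hwo⟩ := exists_prime_orderOf_dvd_card' (G := W) 2 h.two_dvd
    exact no_involution hC hO hSL hS hSodd hW hWS hwW
      (by rw [← hwo]; exact Subgroup.orderOf_coe (⟨w, hwW⟩ : W))
  refine (eq_bot_iff_forall _).mpr fun v hv => congrArg Subtype.val
    (Components.map_eq_one_of_perfect_of_isSolvable (PF14.feitThompson W hodd)
      (Subgroup.isPerfect_iff.mpr hW) (MonoidHom.id W) ⟨v, hv⟩)

end Cfsg.Agent.Comp22
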