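import Cfsg.Agent.Comp22.Hyp
import Cfsg.Agent.Comp22.Iso
import Cfsg.Agent.S0033

/-!
The non-normal reduction cases for perfect coprime automorphism groups fixing the fixed points of an
element of prime order.
-/

set_option autoImplicit false

namespace Cfsg.Agent.Comp22

open Subgroup
open scoped commutatorElement

universe u

/-- The Shult type fixed point theorem, over prime fields. -/
def HHS : Prop :=
  ∀ (X : Type u) [Group X] [Finite X] (G R : Subgroup X) [G.Normal], G ⊔ R = ⊤ →
    ∀ (r : ℕ), r.Prime → Nat.card R = r → ¬ r ∣ Nat.card G →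
    ∀ (p : ℕ) [Fact p.Prime] (V : Type u) [AddCommGroup V] [Module (ZMod p) V]
      [FiniteDimensional (ZMod p) V] [Nontrivial V] (ρ : Representation (ZMod p) X V),
      Function.Injective ρ →
      (∀ W : Submodule (ZMod p) V, (∀ x : X, W.map (ρ x) ≤ W) → W = ⊥ ∨ W = ⊤) →
      (∀ v : V, (∀ x ∈ R, ρ x v = v) → v = 0) →
      ⁅G, R⁆ = ⊥ ∨ ((∃ m : ℕ, r = 2 ^ m + 1) ∧ ¬ IsMulCommutative ↥⁅G, R⁆ ∧
        Cfsg.IsSpecial 2 ↥⁅G, R⁆)

/-- The induction hypothesis: the claim for groups of order less than `n`. -/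
def Ind (r n : ℕ) : Prop :=
  ∀ (U : Type u) [Group U] [Finite U], Nat.card U < n → ∀ (A : Type u) [Group A] [Finite A]
    (φ : A →* MulAut U) (H : Subgroup A) (a : A), Hyp r φ H a → Triv φ H

variable {U : Type u} [Group U] [Finite U] {r : ℕ} [Fact r.Prime]
  {H : Subgroup (MulAut U)} {a : MulAut U}

local notation "ι" => MonoidHom.id (MulAut U)

/-- Invariant proper subgroups are centralised. -/
theorem triv_on_sub (IH : Ind.{u} r (Nat.card U)) (hyp : Hyp r ι H a) {N : Subgroup U} (hN : N ≠ ⊤)
    (hH : ∀ h ∈ H, ∀ x ∈ N, h x ∈ N) (ha : ∀ x ∈ N, a x ∈ N) :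
    ∀ h ∈ H, ∀ x ∈ N, h x = x := by
  have hH' : H ≤ Stab ι N := fun h hh => mem_stab_of_le (hH h hh)
  have hT := IH N (lt_of_le_of_ne (card_le_card_group N) fun e => hN (eq_top_of_card_eq _ e)) _
    (resHom ι N) _ _ (hyp.pullback hH' (mem_stab_of_le ha) (resHom ι N)
      (fun h => hyp.copU (h.trans (card_subgroup_dvd_card N))) (fun h hh x hx => Subtype.ext (by
        have := congrArg Subtype.val hx
        rw [coe_resHom] at this ⊢
        exact hyp.fix h hh x this)))
  intro h hh x hx
  simpa using congrArg Subtype.val (hT ⟨h, hH' hh⟩ hh ⟨x, hx⟩)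

/-- The common fixed points of `H`. -/
def FixH (H : Subgroup (MulAut U)) : Subgroup U where
  carrier := {x | ∀ h ∈ H, h x = x}
  one_mem' := fun h _ => map_one h
  mul_mem' := fun hx hy h hh => by rw [map_mul, hx h hh, hy h hh]
  inv_mem' := fun hx h hh => by rw [map_inv, hx h hh]

theorem fixH_invariant (hyp : Hyp r ι H a) {x : U} (hx : x ∈ FixH H) : a x ∈ FixH H := by
  intro h hh
  have h1 : a⁻¹ * h * a ∈ H := Coprime.conj_mem_of_mem_normalizer' hyp.norm hh
  have h2 := hx _ h1
  simp only [MulAut.mul_apply] at h2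
  calc h (a x) = a (a⁻¹ (h (a x))) := by simp
    _ = a x := by rw [h2]

/-- The case of an elementary abelian, irreducible group. -/
theorem abelian_case (hhs : HHS.{u}) (hyp : Hyp r ι H a) (hab : ∀ x y : U, x * y = y * x)
    (hsimple : ∀ N : Subgroup U, N.Normal → (∀ h ∈ H, ∀ x ∈ N, h x ∈ N) →
      (∀ x ∈ N, a x ∈ N) → N = ⊥ ∨ N = ⊤) : H = ⊥ := by
  rcases subsingleton_or_nontrivial U with hs | hn
  · exact (eq_bot_iff_forall _).mpr fun h _ => DFunLike.ext _ _ fun x => Subsingleton.elim _ _
  letI : CommGroup U := { ‹Group U› with mul_comm := hab }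
  haveI : ∀ N : Subgroup U, N.Normal := fun N => inferInstance
  rcases hsimple (FixH H) inferInstance (fun h hh x hx => by rw [hx h hh]; exact hx)
    (fun x hx => fixH_invariant hyp hx) with hY | hY
  swap
  · exact (eq_bot_iff_forall _).mpr fun h hh => DFunLike.ext _ _ fun x =>
      (hY.ge (mem_top x) : x ∈ FixH H) h hh
  have hfpf : ∀ x : U, a x = x → x = 1 := fun x hx =>
    (mem_bot).mp (hY ▸ (fun h hh => hyp.fix h hh x hx : x ∈ FixH H))
  have ha1 : a ≠ 1 := by
    intro h
    obtain ⟨x, hx⟩ := exists_ne (1 : U)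
    exact hx (hfpf x (by rw [h]; rfl))
  have hcard : Nat.card U ≠ 1 := Finite.one_lt_card.ne'
  obtain ⟨p, hp, hpd⟩ := Nat.exists_prime_and_dvd hcard
  haveI : Fact p.Prime := ⟨hp⟩
  have htors : ∀ x : U, x ^ p = 1 := by
    obtain ⟨x, hx⟩ := exists_prime_orderOf_dvd_card' (G := U) p hpd
    rcases hsimple (powMonoidHom p : U →* U).ker inferInstance
      (fun h _ y hy => by
        simp only [MonoidHom.mem_ker, powMonoidHom_apply] at hy ⊢; rw [← map_pow, hy, map_one])
      (fun y hy => by
        simp only [MonoidHom.mem_ker, powMonoidHom_apply] at hy ⊢; rw [← map_pow, hy, map_one])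
      with h | h
    · have : x ∈ (powMonoidHom p : U →* U).ker := by
        simp [← hx, pow_orderOf_eq_one]
      rw [h, mem_bot] at this
      rw [this, orderOf_one] at hx
      exact absurd hx.symm hp.ne_one
    · exact fun y => h.ge (mem_top y)
  letI : Module (ZMod p) (Additive U) :=
    AddCommGroup.zmodModule (n := p) fun v => show p • v = 0 from
      congrArg Additive.ofMul (htors v.toMul)
  haveI : Module.Finite (ZMod p) (Additive U) := Module.Finite.of_finite
  let X : Subgroup (MulAut U) := H ⊔ zpowers a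
  let G : Subgroup X := H.subgroupOf X
  let R : Subgroup X := (zpowers a).subgroupOf X
  have hXN : X ≤ normalizer (H : Set (MulAut U)) :=
    sup_le Subgroup.le_normalizer (zpowers_le.mpr hyp.norm)
  haveI : G.Normal := normal_subgroupOf_of_le_normalizer hXN
  let ρ : Representation (ZMod p) X (Additive U) :=
    { toFun := fun f => AddMonoidHom.toZModLinearMap p
        (MonoidHom.toAdditive (f : MulAut U).toMonoidHom)
      map_one' := by ext v; rfl
      map_mul' := fun f g => by ext v; rfl }
  have hρ : ∀ (f : X) (x : U), ρ f (Additive.ofMul x) = Additive.ofMul ((f : MulAut U) x) :=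
    fun _ _ => rfl
  have hrp : r.Prime := Fact.out
  have hGR : G ⊔ R = ⊤ := by
    show H.subgroupOf X ⊔ (zpowers a).subgroupOf X = ⊤
    rw [← subgroupOf_sup le_sup_left le_sup_right, subgroupOf_self]
  have hcardR : Nat.card R = r := by
    rw [Nat.card_congr (subgroupOfEquivOfLe (le_sup_right : zpowers a ≤ X)).toEquiv,
      Nat.card_zpowers, orderOf_eq_prime hyp.pow ha1]
  have hcomm : ⁅G, R⁆ = G := map_injective X.subtype_injective (by
    rw [map_commutator, map_subgroupOf_eq_of_le le_sup_left,
      map_subgroupOf_eq_of_le le_sup_right, hyp.comm])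
  have hGperf : ⁅G, G⁆ = G := map_injective X.subtype_injective (by
    rw [map_commutator, map_subgroupOf_eq_of_le le_sup_left, hyp.perf])
  have hres := hhs X G R hGR r hrp hcardR
    (fun h => hyp.copH (h.trans (card_subgroupOf_dvd H X))) p (Additive U) ρ
    (fun f g h => Subtype.ext (MulEquiv.ext fun (x : U) =>
      congrArg Additive.toMul (LinearMap.congr_fun h (Additive.ofMul x))))
    (fun W hW => by
      let N : Subgroup U := AddSubgroup.toSubgroup' W.toAddSubgroup
      have hinv : ∀ f ∈ X, ∀ x ∈ N, f x ∈ N := fun f hf x hx =>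
        hW ⟨f, hf⟩ ⟨Additive.ofMul x, hx, rfl⟩
      rcases hsimple N inferInstance (fun h hh => hinv h (mem_sup_left hh))
        (hinv a (mem_sup_right (mem_zpowers a))) with h | h
      · exact Or.inl ((Submodule.eq_bot_iff _).mpr fun v hv => by
          have : v.toMul ∈ N := hv
          rw [h, mem_bot] at this
          exact congrArg Additive.ofMul this)
      · exact Or.inr (Submodule.eq_top_iff'.mpr fun v => (h.ge (mem_top v.toMul) : v.toMul ∈ N)))
    (fun v hv => by
      have := hfpf v.toMul (congrArg Additive.toMul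
        (hv ⟨a, mem_sup_right (mem_zpowers a)⟩ (mem_zpowers a)))
      exact congrArg Additive.ofMul this)
  have hG : G = ⊥ := by
    rcases hres with h | ⟨-, -, h2⟩
    · rwa [hcomm] at h
    · rw [hcomm] at h2
      exact Components.eq_bot_of_perfect_isPGroup hGperf h2.1
  rwa [subgroupOf_eq_bot, disjoint_iff, inf_eq_left.mpr le_sup_left] at hG

/-- The case in which `H` consists of inner automorphisms. -/
theorem inner_case (hyp : Hyp r ι H a) (hH : H ≤ (MulAut.conj : U →* MulAut U).range)
    (hZ : center U = ⊥) : H = ⊥ := by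
  have hinj : Function.Injective (MulAut.conj : U →* MulAut U) := by
    refine (injective_iff_map_eq_one _).mpr fun u hu => ?_
    have : u ∈ center U := mem_center_iff.mpr fun x => by
      have := DFunLike.congr_fun hu x
      simp only [MulAut.conj_apply, MulAut.one_apply, mul_inv_eq_iff_eq_mul] at this
      exact this.symm
    rwa [hZ, mem_bot] at this
  have hconj : ∀ (f : MulAut U) (u : U), f * MulAut.conj u * f⁻¹ = MulAut.conj (f u) := fun f u =>
    DFunLike.ext _ _ fun x => by simp
  let K : Subgroup U := H.comap (MulAut.conj : U →* MulAut U)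
  have hmap : K.map (MulAut.conj : U →* MulAut U) = H := map_comap_eq_self hH
  have hperf : ⁅K, K⁆ = K := map_injective hinj (by rw [map_commutator, hmap, hyp.perf])
  have haK : a ∈ Stab ι K := mem_stab_of_le fun u hu => by
    show MulAut.conj (a u) ∈ H
    rw [← hconj]
    exact Coprime.conj_mem_of_mem_normalizer hyp.norm hu
  let α : MulAut K := resHom ι K ⟨a, haK⟩
  let Z : Subgroup K := center K
  have hZinv : ∀ g : Stab ι K, g ∈ Stab (resHom ι K) Z := fun g => mem_stab_of_le fun y hy =>
    (characteristic_iff_map_eq.mp (inferInstance : Z.Characteristic) (resHom ι K g)).le ⟨y, hy, rfl⟩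
  let g₀ : Stab (resHom ι K) Z := ⟨⟨a, haK⟩, hZinv _⟩
  let β : MulAut (K ⧸ Z) := quoHom (resHom ι K) Z g₀
  have hcen : ∀ u : K, α u = u → u ∈ Z := fun u hu => mem_center_iff.mpr fun v => by
    have h1 := hyp.fix _ v.2 (u : U) (by simpa [α] using congrArg Subtype.val hu)
    simp only [MonoidHom.id_apply, MulAut.conj_apply, mul_inv_eq_iff_eq_mul] at h1
    exact Subtype.ext h1
  have hfpf : ∀ q : K ⧸ Z, β q = q → q = 1 := by
    intro q hq
    induction q using QuotientGroup.induction_on with
    | _ u =>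
      have haS : (⟨a, haK⟩ : Stab ι K) ^ r = 1 := Subtype.ext hyp.pow
      have hfixq : ∀ b : zpowers (⟨a, haK⟩ : Stab ι K),
          u⁻¹ * ((resHom ι K).comp (zpowers _).subtype) b u ∈ Z := by
        intro b
        obtain ⟨i, hi⟩ := mem_zpowers_iff.mp b.2
        have h1 := zpowers_fix (φ := quoHom (resHom ι K) Z) hq (zpow_mem (mem_zpowers g₀) i)
        rw [quoHom_mk, SubgroupClass.coe_zpow, hi] at h1
        exact QuotientGroup.eq.mp h1.symm
      obtain ⟨n, hn, hfx⟩ := Coprime.exists_fixed_in_coset_hom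
        ((resHom ι K).comp (zpowers (⟨a, haK⟩ : Stab ι K)).subtype) Z
        (fun b y hy => (hZinv _ y).mpr hy)
        (coprime_zpowers Fact.out haS fun h => hyp.copU
          ((h.trans (card_subgroup_dvd_card Z)).trans (card_subgroup_dvd_card K)))
        (Or.inl (isSolvable_zpowers _)) u hfixq
      have h1 := hcen _ (hfx ⟨_, mem_zpowers _⟩)
      exact (QuotientGroup.eq_one_iff u).mpr (by simpa using mul_mem h1 (inv_mem hn))
  have hβr : β ^ r = 1 := by
    show quoHom (resHom ι K) Z g₀ ^ r = 1
    rw [← map_pow, show g₀ ^ r = 1 from Subtype.ext (Subtype.ext hyp.pow), map_one]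
  have hKperf : Group.IsPerfect K := Subgroup.isPerfect_iff.mpr hperf
  have hsub : Subsingleton (K ⧸ Z) := by
    by_contra hne
    have : Nontrivial (K ⧸ Z) := not_subsingleton_iff_nontrivial.mp hne
    have hβ1 : β ≠ 1 := fun h => by
      obtain ⟨q, hq⟩ := exists_ne (1 : K ⧸ Z)
      exact hq (hfpf q (by rw [h]; rfl))
    have hnil := Cfsg.Agent.S0033.result β (fun q hq => hfpf q hq) r Fact.out
      (orderOf_eq_prime hβr hβ1)
    haveI := hnil
    obtain ⟨q, hq⟩ := exists_ne (1 : K ⧸ Z)
    obtain ⟨u, rfl⟩ := QuotientGroup.mk'_surjective Z q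
    exact hq (Components.map_eq_one_of_perfect_of_isSolvable inferInstance hKperf
      (QuotientGroup.mk' Z) u)
  have hcomm : ∀ u v : K, u * v = v * u := fun u v =>
    ((mem_center_iff.mp ((QuotientGroup.eq_one_iff u).mp (Subsingleton.elim _ _))) v).symm
  have hK : K = ⊥ := (eq_bot_iff_forall _).mpr fun u hu =>
    congrArg Subtype.val (eq_one_of_perfect hperf (MonoidHom.id K) (fun v v' => hcomm v v') ⟨u, hu⟩)
  rw [← hmap, hK, Subgroup.map_bot]

end Cfsg.Agent.Comp22
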