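import Cfsg.Agent.Comp22.Cases
import Cfsg.Agent.Lib.OddOrderGlue.Basic

/-!
A perfect group `H = [H, a]` of coprime automorphisms fixing every fixed point of `a` is trivial.
-/

set_option autoImplicit false

namespace Cfsg.Agent.Comp22

open Subgroup
open scoped commutatorElement

universe u

variable {U : Type u} [Group U] [Finite U] {r : ℕ} [Fact r.Prime]
  {H : Subgroup (MulAut U)} {a : MulAut U}

local notation "ι" => MonoidHom.id (MulAut U)

/-- A commutator of subgroups is normalised by the left factor. -/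
theorem le_normalizer_commutator_left {G : Type*} [Group G] (W A : Subgroup G) :
    W ≤ normalizer ((⁅W, A⁆ : Subgroup G) : Set G) := by
  refine Coprime.le_normalizer_of_conj_mem fun w hw x hx => ?_
  have hle : ⁅W, A⁆ ≤ (⁅W, A⁆).comap (MulAut.conj w).toMonoidHom :=
    commutator_le.mpr fun v hv b hb => by
      show w * ⁅v, b⁆ * w⁻¹ ∈ ⁅W, A⁆
      have e : w * ⁅v, b⁆ * w⁻¹ = ⁅w * v, b⁆ * ⁅w, b⁆⁻¹ := by
        simp only [commutatorElement_def]; group
      rw [e]
      exact mul_mem (commutator_mem_commutator (mul_mem hw hv) hb)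
        (inv_mem (commutator_mem_commutator hw hb))
  exact hle hx

/-- If `D` normalises `N`, then `[N ⊔ D, N ⊔ D] ≤ N ⊔ [D, D]`. -/
theorem commutator_sup_le {G : Type*} [Group G] {N D : Subgroup G}
    (h : D ≤ normalizer (N : Set G)) : ⁅N ⊔ D, N ⊔ D⁆ ≤ N ⊔ ⁅D, D⁆ := by
  let M := normalizer (N : Set G)
  let q := QuotientGroup.mk' (N.subgroupOf M)
  have hN : N ≤ M := Subgroup.le_normalizer
  refine commutator_le.mpr fun x hx y hy => ?_
  obtain ⟨n, hn, d, hd, rfl⟩ := Coprime.exists_mul_of_mem_sup h hx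
  obtain ⟨m, hm, e, he, rfl⟩ := Coprime.exists_mul_of_mem_sup h hy
  have key : ⁅q ⟨n * d, mul_mem (hN hn) (h hd)⟩, q ⟨m * e, mul_mem (hN hm) (h he)⟩⁆ =
      q ⁅(⟨d, h hd⟩ : M), ⟨e, h he⟩⁆ := by
    rw [map_commutatorElement]
    have hk : ∀ (z : M) (w : M), (z : G) ∈ N → q (z * w) = q w := fun z w hz => by
      rw [map_mul, show q z = 1 from (QuotientGroup.eq_one_iff z).mpr hz, one_mul]
    rw [show (⟨n * d, mul_mem (hN hn) (h hd)⟩ : M) = ⟨n, hN hn⟩ * ⟨d, h hd⟩ from rfl,
      show (⟨m * e, mul_mem (hN hm) (h he)⟩ : M) = ⟨m, hN hm⟩ * ⟨e, h he⟩ from rfl,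
      hk _ _ hn, hk _ _ hm]
  rw [← map_commutatorElement] at key
  obtain ⟨z, hz, e'⟩ := (QuotientGroup.mk'_eq_mk' _).mp key.symm
  have h1 := congrArg Subtype.val e'
  change ⁅d, e⁆ * (z : G) = ⁅n * d, m * e⁆ at h1
  rw [← h1]
  exact mul_mem (mem_sup_right (commutator_mem_commutator hd he)) (mem_sup_left hz)

/-- Fixed points of `a` on a Sylow 2-subgroup force a Sylow 2-subgroup centralised by `H`. -/
theorem exists_sylow_fixed (IH : Ind.{u} r (Nat.card U)) (hyp : Hyp r ι H a)
    (hsimple : ∀ N : Subgroup U, N.Normal → (∀ h ∈ H, ∀ x ∈ N, h x ∈ N) →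
      (∀ x ∈ N, a x ∈ N) → N = ⊥ ∨ N = ⊤) (hZ : center U = ⊥)
    {x : U} (hx1 : x ≠ 1) (hx2 : ∃ k : ℕ, x ^ (2 ^ k) = 1) (hxa : a x = x) :
    ∃ P : Sylow 2 U, ∀ h ∈ H, ∀ y ∈ (P : Subgroup U), h y = y := by
  let Y := FixH H
  have haY : a ∈ Stab ι Y := mem_stab_of_le fun y hy => fixH_invariant hyp hy
  let g : zpowers (⟨a, haY⟩ : Stab ι Y) →* MulAut Y :=
    (resHom ι Y).comp (zpowers (⟨a, haY⟩ : Stab ι Y)).subtype
  have har : (⟨a, haY⟩ : Stab ι Y) ^ r = 1 := Subtype.ext hyp.pow
  obtain ⟨P0, hP0⟩ := Coprime.exists_invariant_sylow_hom g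
    (coprime_zpowers Fact.out har fun h => hyp.copU (h.trans (card_subgroup_dvd_card Y)))
    (Or.inl (isSolvable_zpowers _)) 2
  let P := (P0 : Subgroup Y).map Y.subtype
  have hPY : P ≤ Y := map_subtype_le _
  have hP2 : IsPGroup 2 P := P0.isPGroup'.map _
  have hPne : P ≠ ⊥ := by
    intro h
    have hxY : x ∈ Y := fun h hh => hyp.fix h hh x hxa
    obtain ⟨k, hk⟩ := hx2
    have hQ : IsPGroup 2 (zpowers (⟨x, hxY⟩ : Y)) := fun q => by
      obtain ⟨j, hj⟩ := mem_zpowers_iff.mp q.2
      refine ⟨k, Subtype.ext (Subtype.ext ?_)⟩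
      rw [SubmonoidClass.coe_pow, ← hj, ← zpow_natCast, ← zpow_mul, mul_comm, zpow_mul,
        zpow_natCast]
      simp [hk]
    have hbot : (P0 : Subgroup Y) = ⊥ :=
      (map_eq_bot_iff_of_injective _ Y.subtype_injective).mp h
    have := P0.is_maximal' hQ (hbot ▸ bot_le)
    rw [hbot, zpowers_eq_bot] at this
    exact hx1 (congrArg Subtype.val this)
  let N := normalizer (P : Set U)
  have hNtop : N ≠ ⊤ := by
    intro h
    haveI : P.Normal := normalizer_eq_top_iff.mp h
    rcases hsimple P inferInstance (fun f hf y hy => by rw [hPY hy f hf]; exact hy)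
      (fun y hy => by
        obtain ⟨y0, hy0, rfl⟩ := hy
        exact ⟨_, hP0 ⟨_, mem_zpowers _⟩ y0 hy0, rfl⟩) with h' | h'
    · exact hPne h'
    · have hU : IsPGroup 2 U := (h' ▸ hP2).of_equiv topEquiv
      haveI : Nontrivial U := ⟨x, 1, hx1⟩
      have := IsPGroup.center_nontrivial hU
      rw [hZ] at this
      exact false_of_nontrivial_of_subsingleton (⊥ : Subgroup U)
  have hPa : ∀ y ∈ P, a y ∈ P := fun y hy => by
    obtain ⟨y0, hy0, rfl⟩ := hy
    exact ⟨_, hP0 ⟨_, mem_zpowers _⟩ y0 hy0, rfl⟩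
  have hinvN : ∀ f : MulAut U, f ∈ Stab ι P → ∀ y ∈ N, f y ∈ N := by
    intro f hf y hy
    refine mem_normalizer_iff.mpr fun z => ?_
    obtain ⟨z', rfl⟩ := f.surjective z
    rw [← map_inv, ← map_mul, ← map_mul]
    exact (hf z').trans ((mem_normalizer_iff.mp hy z').trans (hf _).symm)
  have hfixN := triv_on_sub IH hyp hNtop
    (fun f hf => hinvN f (mem_stab_of_le fun y hy => by
      show f y ∈ P
      rw [hPY hy f hf]; exact hy))
    (hinvN a (mem_stab_of_le hPa))
  obtain ⟨Q, hQ⟩ := hP2.exists_le_sylow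
  refine ⟨Q, fun f hf y hy => ?_⟩
  have hQP : (Q : Subgroup U) ≤ P := by
    by_contra hne
    have hlt : P.subgroupOf (Q : Subgroup U) < ⊤ :=
      lt_top_iff_ne_top.mpr fun h => hne (subgroupOf_eq_top.mp h)
    have hnil : Group.IsNilpotent (Q : Subgroup U) := Q.isPGroup'.isNilpotent
    obtain ⟨q, hqN, hqP⟩ := SetLike.exists_of_lt (Group.normalizerCondition_of_isNilpotent _ hlt)
    have hqn : (q : U) ∈ N := by
      have hconj : ∀ v : (Q : Subgroup U), v ∈ normalizer
          (P.subgroupOf (Q : Subgroup U) : Set (Q : Subgroup U)) →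
          ∀ z ∈ P, (v : U) * z * (v : U)⁻¹ ∈ P := fun v hv z hz =>
        (mem_normalizer_iff.mp hv ⟨z, hQ hz⟩).mp hz
      exact Coprime.mem_normalizer_of_le_iff (hconj q hqN) fun z hz => by
        simpa using hconj q⁻¹ (inv_mem hqN) z hz
    have hqY : (q : U) ∈ Y := fun h hh => hfixN h hh _ hqn
    have hmax := P0.is_maximal' (Q := (Q : Subgroup U).subgroupOf Y) Q.isPGroup'.comap_subtype
      (fun z hz => hQ ⟨z, hz, rfl⟩)
    have : (⟨q, hqY⟩ : Y) ∈ (P0 : Subgroup Y) := hmax ▸ (q.2 : (⟨(q : U), hqY⟩ : Y) ∈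
      (Q : Subgroup U).subgroupOf Y)
    exact hqP ⟨_, this, rfl⟩
  exact hPY (hQP hy) f hf

/-- The non-abelian irreducible case. -/
theorem nonabelian_case (IH : Ind.{u} r (Nat.card U)) (hyp : Hyp r ι H a)
    (hsimple : ∀ N : Subgroup U, N.Normal → (∀ h ∈ H, ∀ x ∈ N, h x ∈ N) →
      (∀ x ∈ N, a x ∈ N) → N = ⊥ ∨ N = ⊤) (hZ : center U = ⊥) [Nontrivial U] : H = ⊥ := by
  let L := (MulAut.conj : U →* MulAut U).range
  have hconj : ∀ (f : MulAut U) (u : U), f * MulAut.conj u * f⁻¹ = MulAut.conj (f u) := fun f u =>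
    DFunLike.ext _ _ fun x => by simp
  haveI hLn : L.Normal := ⟨by
    rintro _ ⟨u, rfl⟩ f
    exact ⟨f u, (hconj f u).symm⟩⟩
  have hinj : Function.Injective (MulAut.conj : U →* MulAut U) := by
    refine (injective_iff_map_eq_one _).mpr fun u hu => ?_
    have : u ∈ center U := mem_center_iff.mpr fun x => by
      have := DFunLike.congr_fun hu x
      simp only [MulAut.conj_apply, MulAut.one_apply, mul_inv_eq_iff_eq_mul] at this
      exact this.symm
    rwa [hZ, mem_bot] at this
  have hsolv_ne : ¬ Group.IsSolvable U := by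
    intro hs
    have hc : (_root_.commutator U) ≠ ⊤ := fun h => by
      obtain ⟨x, hx⟩ := exists_ne (1 : U)
      exact hx (Components.map_eq_one_of_perfect_of_isSolvable hs ⟨h⟩ (MonoidHom.id U) x)
    rcases hsimple (_root_.commutator U) inferInstance
      (fun h _ x hx => (characteristic_iff_map_eq.mp inferInstance h).le ⟨x, hx, rfl⟩)
      (fun x hx => (characteristic_iff_map_eq.mp inferInstance a).le ⟨x, hx, rfl⟩) with h | h
    · obtain ⟨x, hx⟩ := exists_ne (1 : U)
      have hxc : x ∈ center U := mem_center_iff.mpr fun y => by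
        refine (commutatorElement_eq_one_iff_commute.mp ?_)
        have := commutator_mem_commutator (mem_top y) (mem_top x)
        rw [← _root_.commutator_def, h, mem_bot] at this
        exact this
      rw [hZ, mem_bot] at hxc
      exact hx hxc
    · exact hc h
  have hO : Cfsg.pPrimeCore 2 U = ⊥ := by
    refine (hsimple _ inferInstance
      (fun h _ x hx => (Thompson.map_pPrimeCore_equiv h).le ⟨x, hx, rfl⟩)
      (fun x hx => (Thompson.map_pPrimeCore_equiv a).le ⟨x, hx, rfl⟩)).resolve_right fun h => ?_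
    exact hsolv_ne (PF14.feitThompson U
      (Nat.coprime_two_right.mp (Thompson.pPrimeCore_eq_top_iff.mp h)))
  have hIso : ∀ (W : Subgroup (MulAut U)) (S : Sylow 2 U), ⁅W, W⁆ = W →
      (∀ w ∈ W, ∀ y ∈ (S : Subgroup U), w y = y) → W = ⊥ := by
    intro W S hW hWS
    refine eq_bot_of_centralizes_sylow (L := L) (S := (S : Subgroup U).map MulAut.conj) ?_ ?_
      (map_le_range _ _) (S.isPGroup'.map _) ?_ hW ?_
    · refine (eq_bot_iff_forall _).mpr fun f hf => DFunLike.ext _ _ fun u => ?_
      have h1 := mem_centralizer_iff.mp hf _ ⟨u, rfl⟩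
      have h2 := hconj f u
      rw [← h1, mul_inv_cancel_right] at h2
      exact (hinj h2).symm
    · intro M hM hMn hodd
      have hn : (M.comap (MulAut.conj : U →* MulAut U)).Normal := ⟨fun y hy g => by
        show MulAut.conj (g * y * g⁻¹) ∈ M
        rw [map_mul, map_mul, map_inv]
        exact Coprime.conj_mem_of_mem_normalizer (hMn ⟨g, rfl⟩) hy⟩
      have hc : M.comap (MulAut.conj : U →* MulAut U) = ⊥ := by
        refine le_bot_iff.mp (hO ▸ Thompson.le_pPrimeCore hn (Nat.coprime_two_right.mpr ?_))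
        exact hodd.of_dvd_nat (card_comap_dvd_of_injective M _ hinj)
      rw [← map_comap_eq_self hM, hc, Subgroup.map_bot]
    · rw [show L = (⊤ : Subgroup U).map MulAut.conj from MonoidHom.range_eq_map _,
        relIndex_map_map_of_injective _ _ hinj, relIndex_top_right]
      exact S.not_dvd_index
    · intro w hw
      refine mem_centralizer_iff.mpr ?_
      rintro _ ⟨y, hy, rfl⟩
      have h1 := hconj w y
      rw [hWS w hw y hy, mul_inv_eq_iff_eq_mul] at h1
      exact h1.symm
  obtain ⟨S, hS⟩ := Coprime.exists_invariant_sylow_hom (zpowers a).subtype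
    (coprime_zpowers Fact.out hyp.pow hyp.copU) (Or.inl (isSolvable_zpowers a)) 2
  by_cases hfix : ∃ x ∈ (S : Subgroup U), x ≠ 1 ∧ a x = x
  · obtain ⟨x, hxS, hx1, hxa⟩ := hfix
    obtain ⟨k, hk⟩ := S.isPGroup' ⟨x, hxS⟩
    obtain ⟨P, hP⟩ := exists_sylow_fixed IH hyp hsimple hZ hx1
      ⟨k, congrArg Subtype.val hk⟩ hxa
    exact hIso H P hyp.perf hP
  push Not at hfix
  have haS : a ∈ Stab ι (S : Subgroup U) :=
    mem_stab_of_le fun y hy => hS ⟨a, mem_zpowers a⟩ y hy
  let Nst : Subgroup (MulAut U) := (H ⊔ L) ⊓ Stab ι (S : Subgroup U)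
  have hfrat : H ≤ L ⊔ Nst := by
    intro f hf
    obtain ⟨g, hg⟩ := MulAction.exists_smul_eq U
      S (S.mapSurjective (f := f.toMonoidHom) f.surjective)
    have h1 : (S : Subgroup U).map (MulAut.conj g).toMonoidHom =
        (S : Subgroup U).map f.toMonoidHom := by
      have h2 := congrArg (fun T : Sylow 2 U => (T : Subgroup U)) hg
      simp only [Sylow.coe_subgroup_smul, Sylow.coe_mapSurjective] at h2
      exact h2
    have e : f = MulAut.conj g * ((MulAut.conj g)⁻¹ * f) := by rw [mul_inv_cancel_left]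
    rw [e]
    refine mul_mem_sup ⟨g, rfl⟩ (mem_inf.mpr
      ⟨mul_mem (inv_mem (mem_sup_right ⟨g, rfl⟩)) (mem_sup_left hf), mem_stab_of_le fun y hy => ?_⟩)
    obtain ⟨z, hz, e'⟩ := h1.ge ⟨y, hy, rfl⟩
    show (MulAut.conj g)⁻¹ (f y) ∈ (S : Subgroup U)
    rw [show f y = MulAut.conj g z from e'.symm, MulAut.inv_apply_self]
    exact hz
  let D : ℕ → Subgroup (MulAut U) := fun k => (derivedSeries Nst k).map Nst.subtype
  have hDsucc : ∀ k, D (k + 1) = ⁅D k, D k⁆ := fun k => by
    simp only [D, derivedSeries_succ, map_commutator]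
  have hDle : ∀ k, D k ≤ Nst := fun k => map_subtype_le _
  have hHD : ∀ k, H ≤ L ⊔ D k := by
    intro k
    induction k with
    | zero =>
      refine hfrat.trans (sup_le_sup_left ?_ _)
      intro f hf
      exact ⟨⟨f, hf⟩, mem_top _, rfl⟩
    | succ k ih =>
      rw [← hyp.perf, hDsucc]
      refine (commutator_mono ih ih).trans (commutator_sup_le ?_)
      rw [normalizer_eq_top]; exact le_top
  have hDa : ∀ k, a ∈ normalizer (D k : Set (MulAut U)) := by
    intro k
    have haN : a ∈ normalizer (Nst : Set (MulAut U)) := by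
      refine Coprime.le_normalizer_inf (A := zpowers a) ?_ ?_ (mem_zpowers a)
      · exact zpowers_le.mpr (Coprime.le_normalizer_sup (A := zpowers a)
          (zpowers_le.mpr hyp.norm) (by rw [normalizer_eq_top]; exact le_top) (mem_zpowers a))
      · exact zpowers_le.mpr (Subgroup.le_normalizer haS)
    exact Coprime.normalizer_le_normalizer_map Nst (derivedSeries Nst k) haN
  let k := Function.argmin (fun k => Nat.card (D k))
  let W := D k
  have hW : ⁅W, W⁆ = W := by
    rw [← hDsucc]
    refine eq_of_le_of_card_ge (map_mono (derivedSeries_antitone _ (Nat.le_succ k))) ?_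
    exact Function.argmin_le (fun k => Nat.card (D k)) (k + 1)
  have hWHL : W ≤ H ⊔ L := (hDle k).trans inf_le_left
  have hW1n : W ≤ normalizer ((⁅W, zpowers a⁆ : Subgroup (MulAut U)) : Set (MulAut U)) :=
    le_normalizer_commutator_left W _
  have hW1W : ⁅W, zpowers a⁆ ≤ W :=
    Thompson.commutator_le_of_le_normalizer (zpowers_le.mpr (hDa k))
  have hWq : W ≤ ⁅W, zpowers a⁆ ⊔ L := by
    have hk : ∀ M : Subgroup (MulAut U), (M ⊔ L).map (QuotientGroup.mk' L) =
        M.map (QuotientGroup.mk' L) := fun M => by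
      rw [Subgroup.map_sup, sup_eq_left]
      refine (map_le_iff_le_comap.mpr fun y hy => ?_)
      show QuotientGroup.mk' L y ∈ M.map (QuotientGroup.mk' L)
      rw [show QuotientGroup.mk' L y = 1 from (QuotientGroup.eq_one_iff y).mpr hy]
      exact one_mem _
    have hWH : W.map (QuotientGroup.mk' L) = H.map (QuotientGroup.mk' L) := by
      refine le_antisymm ((map_mono hWHL).trans_eq (hk H)) ?_
      exact (map_mono (hHD k)).trans_eq (by rw [sup_comm]; exact hk W)
    have h1 : W.map (QuotientGroup.mk' L) = ⁅W, zpowers a⁆.map (QuotientGroup.mk' L) := by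
      rw [map_commutator, hWH, ← map_commutator, hyp.comm]
    intro w hw
    obtain ⟨w1, hw1, e⟩ := h1.le ⟨w, hw, rfl⟩
    have h2 : w1⁻¹ * w ∈ L := QuotientGroup.eq.mp e
    rw [← mul_inv_cancel_left w1 w]
    exact mul_mem_sup hw1 h2
  haveI hsolv : Group.IsSolvable ↥(W ⊓ L : Subgroup (MulAut U)) := by
    have hNS : Group.IsSolvable ↥(normalizer ((S : Subgroup U) : Set U)) := by
      haveI : Group.IsSolvable ↥((S : Subgroup U).subgroupOf
          (normalizer ((S : Subgroup U) : Set U))) := by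
        haveI : Group.IsNilpotent ↥((S : Subgroup U).subgroupOf
            (normalizer ((S : Subgroup U) : Set U))) :=
          (S.isPGroup'.comap_subtype).isNilpotent
        infer_instance
      refine OddOrderGlue.isSolvable_of_odd_quotient PF14.feitThompson
        ((S : Subgroup U).subgroupOf (normalizer ((S : Subgroup U) : Set U))) ?_
      rw [Nat.odd_iff]
      have h := S.not_dvd_index
      have h2 : (S : Subgroup U).relIndex (normalizer ((S : Subgroup U) : Set U)) ∣
          (S : Subgroup U).index := relIndex_dvd_index_of_le Subgroup.le_normalizer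
      exact Nat.two_dvd_ne_zero.mp fun h3 => h (h3.trans h2)
    refine Coprime.solvable_of_le (B := (normalizer ((S : Subgroup U) : Set U)).map MulAut.conj)
      (fun f hf => ?_) (by
        haveI := hNS
        exact Group.isSolvable_of_surjective
          (f := ((normalizer ((S : Subgroup U) : Set U)).equivMapOfInjective _ hinj).toMonoidHom)
          ((normalizer ((S : Subgroup U) : Set U)).equivMapOfInjective _ hinj).surjective)
    obtain ⟨g, rfl⟩ := (mem_inf.mp hf).2
    have hgS : MulAut.conj g ∈ Stab ι (S : Subgroup U) :=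
      (mem_inf.mp (hDle k (mem_inf.mp hf).1)).2
    exact ⟨g, mem_normalizer_iff.mpr fun z => (hgS z).symm, rfl⟩
  obtain ⟨n, hn⟩ := hsolv.solvable
  have hWd : ∀ j, W ≤ ⁅W, zpowers a⁆ ⊔
      (derivedSeries ↥(W ⊓ L : Subgroup (MulAut U)) j).map (W ⊓ L).subtype := by
    intro j
    induction j with
    | zero =>
      intro w hw
      obtain ⟨l, hl, w1, hw1, e⟩ := Coprime.exists_mul_of_mem_sup
        (show ⁅W, zpowers a⁆ ≤ normalizer (L : Set (MulAut U)) by
          rw [normalizer_eq_top]; exact le_top) (sup_comm (⁅W, zpowers a⁆) L ▸ hWq hw)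
      rw [e] at hw
      have hlW : l ∈ W := by simpa using mul_mem hw (inv_mem (hW1W hw1))
      rw [e]
      exact mul_mem (mem_sup_right ⟨⟨l, mem_inf.mpr ⟨hlW, hl⟩⟩, mem_top _, rfl⟩) (mem_sup_left hw1)
    | succ j ih =>
      calc W = ⁅W, W⁆ := hW.symm
        _ ≤ _ := commutator_mono ih ih
        _ ≤ _ := commutator_sup_le (((map_subtype_le _).trans inf_le_left).trans hW1n)
        _ = _ := by rw [derivedSeries_succ, map_commutator]
  have hWcomm : ⁅W, zpowers a⁆ = W := by
    refine le_antisymm hW1W ?_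
    have := hWd n
    rwa [hn, Subgroup.map_bot, sup_bot_eq] at this
  have hWS : ∀ w ∈ W, ∀ y ∈ (S : Subgroup U), w y = y := by
    have hyp' : Hyp r (resHom ι (S : Subgroup U)) (W.subgroupOf (Stab ι (S : Subgroup U)))
        ⟨a, haS⟩ := by
      let hypW : Hyp r (1 : MulAut U →* MulAut U) W a :=
        { norm := hDa k
          perf := hW
          comm := hWcomm
          pow := hyp.pow
          copH := fun h => by
            have h1 : r ∣ Nat.card H * Nat.card L :=
              (h.trans (card_dvd_of_le hWHL)).trans (Thompson.card_sup_dvd_mul H L)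
            rcases (Nat.Prime.dvd_mul Fact.out).mp h1 with h2 | h2
            · exact hyp.copH h2
            · exact hyp.copU (h2.trans (Subgroup.card_range_dvd _))
          copU := hyp.copU
          fix := fun _ _ _ _ => rfl }
      refine hypW.pullback ((hDle k).trans inf_le_right) haS _
        (fun h => hyp.copU (h.trans (card_subgroup_dvd_card _))) (fun h hh y hy => ?_)
      have hy' : a (y : U) = y := congrArg Subtype.val hy
      have h1 : y = 1 := Subtype.ext (by
        by_contra hne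
        exact hfix y y.2 hne hy')
      rw [h1, map_one]
    have hcard : Nat.card (S : Subgroup U) < Nat.card U := by
      refine lt_of_le_of_ne (card_le_card_group _) fun e => hsolv_ne ?_
      have hU : IsPGroup 2 U := (eq_top_of_card_eq _ e ▸ S.isPGroup').of_equiv topEquiv
      haveI := hU.isNilpotent
      infer_instance
    intro w hw y hy
    simpa using congrArg Subtype.val (IH _ hcard _ _ _ _ hyp' ⟨w, (hDle k hw).2⟩ hw ⟨y, hy⟩)
  have hWbot : W = ⊥ := hIso W S hW hWS
  refine inner_case hyp ?_ hZ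
  have h := hHD k
  rwa [show D k = ⊥ from hWbot, sup_bot_eq] at h

/-- The claim. -/
theorem claim (hhs : HHS.{u}) (r : ℕ) [Fact r.Prime] (n : ℕ) : Ind.{u} r n := by
  induction n using Nat.strong_induction_on with
  | _ n IH =>
  intro U _ _ hUn A _ _ φ H a hyp
  have IH' : Ind.{u} r (Nat.card U) := IH _ hUn
  suffices H.map φ = ⊥ by
    intro h hh x
    have h1 : φ h = 1 := mem_bot.mp (this ▸ mem_map_of_mem φ hh)
    rw [h1]; rfl
  have hy := hyp.image
  set ι' := MonoidHom.id (MulAut U)
  by_cases hN : ∃ N : Subgroup U, N.Normal ∧ (∀ h ∈ H.map φ, ∀ x ∈ N, h x ∈ N) ∧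
      (∀ x ∈ N, φ a x ∈ N) ∧ N ≠ ⊥ ∧ N ≠ ⊤
  · obtain ⟨N, hNn, hNH, hNa, hN1, hN2⟩ := hN
    haveI := hNn
    have hT : Triv ι' (H.map φ) := by
      refine hy.triv_of_normal N (fun f hf => mem_stab_of_le (hNH f hf)) (mem_stab_of_le hNa)
        (triv_on_sub IH' hy hN2 hNH hNa) fun hq => IH' _ ?_ _ _ _ _ hq
      rw [card_eq_card_quotient_mul_card_subgroup N]
      exact lt_mul_of_one_lt_right Nat.card_pos (one_lt_card_iff_ne_bot _ |>.mpr hN1)
    exact (eq_bot_iff_forall _).mpr fun f hf => DFunLike.ext _ _ fun x => hT f hf x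
  push Not at hN
  have hsimple : ∀ N : Subgroup U, N.Normal → (∀ h ∈ H.map φ, ∀ x ∈ N, h x ∈ N) →
      (∀ x ∈ N, φ a x ∈ N) → N = ⊥ ∨ N = ⊤ := fun N h1 h2 h3 => by
    by_cases h : N = ⊥
    · exact Or.inl h
    · exact Or.inr (hN N h1 h2 h3 h)
  rcases subsingleton_or_nontrivial U with hs | hn
  · exact abelian_case hhs hy (fun x y => Subsingleton.elim _ _) hsimple
  rcases hsimple (center U) inferInstance
    (fun h _ x hx => (characteristic_iff_map_eq.mp inferInstance h).le ⟨x, hx, rfl⟩)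
    (fun x hx => (characteristic_iff_map_eq.mp inferInstance (φ a)).le ⟨x, hx, rfl⟩) with h | h
  · exact nonabelian_case IH' hy hsimple h
  · exact abelian_case hhs hy (fun x y => ((mem_center_iff.mp (h.ge (mem_top x))) y).symm) hsimple

end Cfsg.Agent.Comp22
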