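import Cfsg.Agent.Comp22.Basic
import Cfsg.Agent.Lib.Coprime.Hom
import Cfsg.Agent.Lib.Components.LBalance

/-!
Perfect groups `H = [H, a]` of coprime automorphisms fixing all fixed points of `a`.
-/

set_option autoImplicit false

namespace Cfsg.Agent.Comp22

open Subgroup
open scoped commutatorElement

universe u

variable {A U : Type u} [Group A] [Group U]

/-- `H = [H, a]` is perfect, coprime, and fixes every fixed point of `a` on `U`. -/
structure Hyp (r : ℕ) (φ : A →* MulAut U) (H : Subgroup A) (a : A) : Prop where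
  norm : a ∈ normalizer (H : Set A)
  perf : ⁅H, H⁆ = H
  comm : ⁅H, zpowers a⁆ = H
  pow : a ^ r = 1
  copH : ¬ r ∣ Nat.card H
  copU : ¬ r ∣ Nat.card U
  fix : ∀ h ∈ H, ∀ x, φ a x = x → φ h x = x

/-- `H` acts trivially. -/
def Triv (φ : A →* MulAut U) (H : Subgroup A) : Prop := ∀ h ∈ H, ∀ x, φ h x = x

/-- The stabiliser of a subgroup in a group of automorphisms. -/
def Stab (φ : A →* MulAut U) (N : Subgroup U) : Subgroup A where
  carrier := {g | ∀ x, φ g x ∈ N ↔ x ∈ N}
  one_mem' := by simp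
  mul_mem' := by
    intro g h hg hh x
    rw [map_mul, MulAut.mul_apply]
    exact (hg _).trans (hh x)
  inv_mem' := by
    intro g hg x
    rw [map_inv]
    conv_rhs => rw [← (φ g).apply_symm_apply x]
    exact (hg _).symm

theorem mem_stab_of_le [Finite U] {φ : A →* MulAut U} {N : Subgroup U} {g : A}
    (h : ∀ x ∈ N, φ g x ∈ N) : g ∈ Stab φ N := by
  intro x
  refine ⟨fun hx => ?_, h x⟩
  have hle : N.map (φ g).toMonoidHom ≤ N := map_le_iff_le_comap.mpr h
  have heq : N.map (φ g).toMonoidHom = N := eq_of_le_of_card_ge hle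
    (le_of_eq (Nat.card_congr (N.equivMapOfInjective _ (φ g).injective).toEquiv))
  obtain ⟨y, hy, e⟩ := heq.ge hx
  rw [← (φ g).injective e]; exact hy

/-- The induced action on an invariant subgroup. -/
def resHom (φ : A →* MulAut U) (N : Subgroup U) : Stab φ N →* MulAut N where
  toFun g :=
    { toFun := fun x => ⟨φ (g : A) x, (g.2 x).mpr x.2⟩
      invFun := fun x => ⟨φ ((g⁻¹ : Stab φ N) : A) x, ((g⁻¹).2 x).mpr x.2⟩
      left_inv := fun x => Subtype.ext (by simp)
      right_inv := fun x => Subtype.ext (by simp)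
      map_mul' := fun x y => Subtype.ext (map_mul (φ (g : A)) _ _) }
  map_one' := by ext x; simp
  map_mul' g h := by ext x; simp [map_mul]

@[simp] theorem coe_resHom (φ : A →* MulAut U) (N : Subgroup U) (g : Stab φ N) (x : N) :
    ((resHom φ N g x : N) : U) = φ (g : A) x := rfl

/-- The induced action on the quotient by an invariant normal subgroup. -/
def quoHom (φ : A →* MulAut U) (N : Subgroup U) [N.Normal] : Stab φ N →* MulAut (U ⧸ N) where
  toFun g := QuotientGroup.congr N N (φ (g : A)) (by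
    ext x
    constructor
    · rintro ⟨y, hy, rfl⟩
      exact (g.2 y).mpr hy
    · intro hx
      exact ⟨(φ (g : A)).symm x, (g.2 _).mp (by simpa using hx), by simp⟩)
  map_one' := by
    ext x
    induction x using QuotientGroup.induction_on
    simp
  map_mul' g h := by
    ext x
    induction x using QuotientGroup.induction_on
    simp [map_mul]

@[simp] theorem quoHom_mk (φ : A →* MulAut U) (N : Subgroup U) [N.Normal] (g : Stab φ N) (x : U) :
    quoHom φ N g (x : U ⧸ N) = ((φ (g : A) x : U) : U ⧸ N) := rfl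

theorem card_subgroupOf_dvd (H K : Subgroup A) : Nat.card (H.subgroupOf K) ∣ Nat.card H :=
  card_comap_dvd_of_injective H K.subtype K.subtype_injective

/-- The hypotheses pass to a subgroup containing `H` and `a`, acting on `V`. -/
theorem Hyp.pullback {r : ℕ} {φ : A →* MulAut U} {H : Subgroup A} {a : A} (hyp : Hyp r φ H a)
    {J : Subgroup A} (hH : H ≤ J) (ha : a ∈ J) {V : Type u} [Group V] (ψ : J →* MulAut V)
    (hcop : ¬ r ∣ Nat.card V)
    (hfix : ∀ h : J, (h : A) ∈ H → ∀ x, ψ ⟨a, ha⟩ x = x → ψ h x = x) :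
    Hyp r ψ (H.subgroupOf J) ⟨a, ha⟩ where
  norm := mem_normalizer_iff.mpr fun x => mem_normalizer_iff.mp hyp.norm (x : A)
  perf := map_injective J.subtype_injective (by
    rw [map_commutator, map_subgroupOf_eq_of_le hH, hyp.perf])
  comm := map_injective J.subtype_injective (by
    rw [map_commutator, map_subgroupOf_eq_of_le hH, MonoidHom.map_zpowers, J.coe_subtype,
      hyp.comm])
  pow := Subtype.ext hyp.pow
  copH h := hyp.copH (h.trans (card_subgroupOf_dvd H J))
  copU := hcop
  fix h hh x hx := hfix h hh x hx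

/-- The hypotheses pass to the image in `MulAut U`. -/
theorem Hyp.image {r : ℕ} {φ : A →* MulAut U} {H : Subgroup A} {a : A} (hyp : Hyp r φ H a) :
    Hyp r (MonoidHom.id (MulAut U)) (H.map φ) (φ a) where
  norm := le_normalizer_map φ ⟨a, hyp.norm, rfl⟩
  perf := by rw [← map_commutator, hyp.perf]
  comm := by rw [← MonoidHom.map_zpowers, ← map_commutator, hyp.comm]
  pow := by rw [← map_pow, hyp.pow, map_one]
  copH h := hyp.copH (h.trans (Subgroup.card_map_dvd H φ))
  copU := hyp.copU
  fix := by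
    rintro _ ⟨h, hh, rfl⟩ x hx
    exact hyp.fix h hh x hx

theorem zpowers_fix {φ : A →* MulAut U} {a : A} {x : U} (hx : φ a x = x) {b : A}
    (hb : b ∈ zpowers a) : φ b x = x :=
  (zpowers_le.mpr (show a ∈ (MulAction.stabilizer (MulAut U) x).comap φ from hx) hb :
    b ∈ (MulAction.stabilizer (MulAut U) x).comap φ)

theorem coprime_zpowers {r : ℕ} (hr : r.Prime) {a : A} (ha : a ^ r = 1) {n : ℕ} (hn : ¬ r ∣ n) :
    (Nat.card (zpowers a)).Coprime n := by
  rw [Nat.card_zpowers]
  exact (hr.coprime_iff_not_dvd.mpr hn).coprime_dvd_left (orderOf_dvd_of_pow_eq_one ha)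

theorem isSolvable_zpowers (a : A) : Group.IsSolvable (zpowers a) :=
  Group.isSolvable_of_comm fun u v => mul_comm' u v

/-- Triviality on an invariant normal subgroup and on the quotient gives triviality. -/
theorem Hyp.triv_of_normal [Finite U] {r : ℕ} [Fact r.Prime] {φ : A →* MulAut U} {H : Subgroup A}
    {a : A} (hyp : Hyp r φ H a) (N : Subgroup U) [N.Normal] (hH : H ≤ Stab φ N)
    (ha : a ∈ Stab φ N) (hN : ∀ h ∈ H, ∀ x ∈ N, φ h x = x)
    (hQ : Hyp r (quoHom φ N) (H.subgroupOf (Stab φ N)) ⟨a, ha⟩ →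
      Triv (quoHom φ N) (H.subgroupOf (Stab φ N))) : Triv φ H := by
  have hq : Hyp r (quoHom φ N) (H.subgroupOf (Stab φ N)) ⟨a, ha⟩ := by
    refine hyp.pullback hH ha _ (fun h => hyp.copU (h.trans N.card_quotient_dvd_card))
      (fun h hh q hq => ?_)
    induction q using QuotientGroup.induction_on with
    | _ x =>
      haveI : Finite (zpowers a) := IsOfFinOrder.finite_zpowers (isOfFinOrder_iff_pow_eq_one.mpr
        ⟨r, (Fact.out : r.Prime).pos, hyp.pow⟩)
      have hfixq : ∀ b : zpowers a, x⁻¹ * φ (b : A) x ∈ N := by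
        intro b
        obtain ⟨i, hi⟩ := mem_zpowers_iff.mp b.2
        have h1 := zpowers_fix (φ := quoHom φ N) hq
          (zpow_mem (mem_zpowers (⟨a, ha⟩ : Stab φ N)) i)
        rw [quoHom_mk, SubgroupClass.coe_zpow, hi] at h1
        exact QuotientGroup.eq.mp h1.symm
      obtain ⟨n, hn, hfx⟩ := Coprime.exists_fixed_in_coset_hom
        (φ.comp (zpowers a).subtype) N
        (fun b y hy => ((zpowers_le.mpr ha b.2 : (b : A) ∈ Stab φ N) y).mpr hy)
        (coprime_zpowers Fact.out hyp.pow fun h =>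
          hyp.copU (h.trans (card_subgroup_dvd_card N)))
        (Or.inl (isSolvable_zpowers a)) x hfixq
      have h2 := hyp.fix h hh (x * n) (hfx ⟨a, mem_zpowers a⟩)
      have e : ((x * n : U) : U ⧸ N) = x := by simp [hn]
      rw [← e, quoHom_mk, h2]
  have hQ' := hQ hq
  intro h hh x
  have hd : ∀ g : H, x⁻¹ * φ (g : A) x ∈ N := fun g => by
    have := hQ' ⟨g, hH g.2⟩ g.2 (x : U ⧸ N)
    rw [quoHom_mk] at this
    exact QuotientGroup.eq.mp this.symm
  let f : H →* N := MonoidHom.mk' (fun g => ⟨_, hd g⟩) fun g g' => Subtype.ext (by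
    have h1 := hN g g.2 _ (hd g')
    rw [map_mul, map_inv] at h1
    show x⁻¹ * φ ((g : A) * g') x = x⁻¹ * φ (g : A) x * (x⁻¹ * φ (g' : A) x)
    rw [map_mul, MulAut.mul_apply]
    calc x⁻¹ * φ (g : A) (φ (g' : A) x)
        = x⁻¹ * φ (g : A) x * ((φ (g : A) x)⁻¹ * φ (g : A) (φ (g' : A) x)) := by group
      _ = _ := by rw [h1])
  have hcentral : ∀ g g' : H, Commute (f g) (f g') := fun g g' => Subtype.ext (by
    show (f g : U) * (f g' : U) = (f g' : U) * (f g : U)
    have hn : (f g' : U) ∈ N := (f g').2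
    generalize (f g' : U) = n at hn ⊢
    have hxn : x * n * x⁻¹ ∈ N := ‹N.Normal›.conj_mem n hn x
    have h1 := hN g g.2 _ hxn
    rw [map_mul, map_mul, map_inv, hN g g.2 n hn] at h1
    show x⁻¹ * φ (g : A) x * n = n * (x⁻¹ * φ (g : A) x)
    calc x⁻¹ * φ (g : A) x * n
        = x⁻¹ * (φ (g : A) x * n * (φ (g : A) x)⁻¹) * φ (g : A) x := by group
      _ = x⁻¹ * (x * n * x⁻¹) * φ (g : A) x := by rw [h1]
      _ = n * (x⁻¹ * φ (g : A) x) := by group)
  have h3 := congrArg Subtype.val (eq_one_of_perfect hyp.perf f hcentral ⟨h, hh⟩)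
  exact (inv_mul_eq_one.mp h3).symm

end Cfsg.Agent.Comp22
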