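import Cfsg.Agent.Comp22.Basic
import Cfsg.Agent.Lib.Solvable.System

/-!
The centraliser of `R ⊓ L` in a normal subgroup `L`, for a fusion-controlling 2-subgroup `R`.
-/

set_option autoImplicit false

namespace Cfsg.Agent.Comp22

open Subgroup
open scoped commutatorElement

variable {G : Type*} [Group G] [Finite G]

/-- In the situation of the strong Alperin theorem, a 2-element of `L` normalising `R` and
centralising `R ⊓ L` lies in `R`. -/
theorem mem_of_centralizes (L : Subgroup G) [L.Normal] {T R : Subgroup G} (hT : IsPGroup 2 T)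
    (hRT : R ≤ T)
    (hsyl : ¬ 2 ∣ (T ⊓ normalizer (R : Set G)).relIndex (normalizer (R : Set G)))
    (hcent : T ⊓ centralizer (R : Set G) ≤ R)
    (hO : (Cfsg.pPrimePCore 2 ↥(normalizer (R : Set G))).map (normalizer (R : Set G)).subtype =
      R ⊔ centralizer (R : Set G))
    {c : G} (hcL : c ∈ L) (hcN : c ∈ normalizer (R : Set G))
    (hcC : c ∈ centralizer ((R ⊓ L : Subgroup G) : Set G)) (hc2 : ∃ k : ℕ, c ^ (2 ^ k) = 1) :
    c ∈ R := by
  let N := normalizer (R : Set G)
  let R0 := R ⊓ L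
  have hR0N : ∀ n ∈ N, ∀ z ∈ R0, n * z * n⁻¹ ∈ R0 := fun n hn z hz =>
    ⟨(mem_normalizer_iff.mp hn z).mp hz.1, ‹L.Normal›.conj_mem z hz.2 n⟩
  let KK : Subgroup N := (L ⊓ centralizer (R0 : Set G)).subgroupOf N
  have hKKn : KK.Normal := ⟨fun y hy g => by
    refine ⟨‹L.Normal›.conj_mem _ hy.1 _, mem_centralizer_iff.mpr fun z hz => ?_⟩
    have h : ((g : G)⁻¹ * z * g) * (y : G) = (y : G) * ((g : G)⁻¹ * z * g) :=
      mem_centralizer_iff.mp hy.2 _
      (by simpa using hR0N (g : G)⁻¹ (inv_mem g.2) z hz)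
    show z * ((g : G) * (y : G) * (g : G)⁻¹) = (g : G) * (y : G) * (g : G)⁻¹ * z
    calc z * ((g : G) * (y : G) * (g : G)⁻¹)
        = (g : G) * ((g : G)⁻¹ * z * g * (y : G)) * (g : G)⁻¹ := by group
      _ = (g : G) * ((y : G) * ((g : G)⁻¹ * z * g)) * (g : G)⁻¹ := by rw [h]
      _ = (g : G) * (y : G) * (g : G)⁻¹ * z := by group⟩
  obtain ⟨n, hn⟩ := (hT.to_le (show R0 ≤ T from inf_le_left.trans hRT)).exists_card_eq
  have hpow : ∀ y : N, y ∈ KK → (y : G) ^ (2 ^ n) ∈ centralizer (R : Set G) := by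
    intro y hy
    refine mem_centralizer_iff.mpr fun r hr => ?_
    let d := (y : G) * r * (y : G)⁻¹ * r⁻¹
    have hd : d ∈ R0 := by
      refine mem_inf.mpr ⟨R.mul_mem ((mem_normalizer_iff.mp y.2 r).mp hr) (R.inv_mem hr), ?_⟩
      have hyL : (y : G) ∈ L := hy.1
      have h1 : r * (y : G)⁻¹ * r⁻¹ ∈ L := ‹L.Normal›.conj_mem _ (inv_mem hyL) r
      simpa [d, mul_assoc] using mul_mem hyL h1
    have hyd : d * (y : G) = (y : G) * d := mem_centralizer_iff.mp hy.2 d hd
    have key : ∀ j : ℕ, (y : G) ^ j * r * ((y : G) ^ j)⁻¹ = d ^ j * r := by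
      intro j
      induction j with
      | zero => simp
      | succ j ih =>
        have h2 : (y : G) * d ^ j * (y : G)⁻¹ = d ^ j := by
          rw [((Commute.symm hyd).pow_right j).eq, mul_inv_cancel_right]
        calc (y : G) ^ (j + 1) * r * ((y : G) ^ (j + 1))⁻¹
            = (y : G) * ((y : G) ^ j * r * ((y : G) ^ j)⁻¹) * (y : G)⁻¹ := by
              rw [pow_succ']; group
          _ = (y : G) * (d ^ j * r) * (y : G)⁻¹ := by rw [ih]
          _ = ((y : G) * d ^ j * (y : G)⁻¹) * ((y : G) * r * (y : G)⁻¹) := by group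
          _ = d ^ j * (d * r) := by rw [h2]; simp only [d]; group
          _ = d ^ (j + 1) * r := by rw [pow_succ d j]; exact (mul_assoc _ _ _).symm
    have hd1 : d ^ (2 ^ n) = 1 := by
      have := pow_card_eq_one' (x := (⟨d, hd⟩ : R0))
      rw [hn] at this
      simpa using congrArg Subtype.val this
    have h3 := key (2 ^ n)
    rw [hd1, one_mul, mul_inv_eq_iff_eq_mul] at h3
    exact h3.symm
  have hK : KK ≤ Cfsg.pPrimePCore 2 N := by
    refine map_le_iff_le_comap.mp (Thompson.le_pCore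
      (hKKn.map (QuotientGroup.mk' (Cfsg.pPrimeCore 2 N)) (QuotientGroup.mk'_surjective _)) ?_)
    rintro ⟨_, y, hy, rfl⟩
    have h1 : y ^ (2 ^ n) ∈ Cfsg.pPrimePCore 2 N := by
      have h2 : ((y ^ (2 ^ n) : N) : G) ∈ R ⊔ centralizer (R : Set G) :=
        mem_sup_right (by simpa using hpow y hy)
      rw [← hO] at h2
      obtain ⟨u, hu, e⟩ := h2
      rw [← Subtype.ext e]
      exact hu
    obtain ⟨j, hj⟩ := Thompson.isPGroup_pCore (p := 2) ⟨_, h1⟩
    refine ⟨n + j, Subtype.ext ?_⟩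
    have h4 := congrArg Subtype.val hj
    simp only [SubmonoidClass.coe_pow, map_pow, OneMemClass.coe_one] at h4 ⊢
    rw [pow_add, pow_mul]
    exact h4
  have hcJ : c ∈ R ⊔ centralizer (R : Set G) := by
    rw [← hO]
    exact ⟨⟨c, hcN⟩, hK ⟨hcL, hcC⟩, rfl⟩
  have hodd : ¬ 2 ∣ R.relIndex (R ⊔ centralizer (R : Set G)) := by
    have hCN : centralizer (R : Set G) ≤ N := centralizer_le_normalizer _
    rw [sup_comm, Coprime.relIndex_sup_of_le_normalizer hCN]
    intro h
    apply hsyl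
    have : Nat.card G ≠ 0 := Nat.card_pos.ne'
    haveI : ((centralizer (R : Set G)).subgroupOf N).Normal := by
      refine ⟨fun y hy g => mem_centralizer_iff.mpr fun z hz => ?_⟩
      have hm : ((g : G)⁻¹ * z * g) * (y : G) = (y : G) * ((g : G)⁻¹ * z * g) :=
        mem_centralizer_iff.mp hy _
        (by simpa using (mem_normalizer_iff.mp (inv_mem g.2) z).mp hz)
      show z * ((g : G) * (y : G) * (g : G)⁻¹) = (g : G) * (y : G) * (g : G)⁻¹ * z
      calc z * ((g : G) * (y : G) * (g : G)⁻¹)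
          = (g : G) * ((g : G)⁻¹ * z * g * (y : G)) * (g : G)⁻¹ := by group
        _ = (g : G) * ((y : G) * ((g : G)⁻¹ * z * g)) * (g : G)⁻¹ := by rw [hm]
        _ = (g : G) * (y : G) * (g : G)⁻¹ * z := by group
    have h1 := Solvable.relIndex_dvd_index_right_normal ((T ⊓ N).subgroupOf N)
      ((centralizer (R : Set G)).subgroupOf N)
    rw [relIndex_subgroupOf hCN] at h1
    refine h.trans (?_ : R.relIndex (centralizer (R : Set G)) ∣ (T ⊓ N).relIndex N)
    refine Dvd.dvd.trans ?_ h1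
    rw [← inf_relIndex_right (T ⊓ N)]
    exact relIndex_dvd_of_le_left _
      ((inf_le_inf_right _ inf_le_left).trans hcent)
  obtain ⟨k, hk⟩ := hc2
  have hQ : IsPGroup 2 ↥(zpowers c ⊔ R : Subgroup G) :=
    IsPGroup.to_sup_of_normal_right' (IsPGroup.of_card (n := (orderOf c).factorization 2) (by
      rw [Nat.card_zpowers]
      obtain ⟨i, _, hi⟩ := (Nat.dvd_prime_pow Nat.prime_two).mp (orderOf_dvd_of_pow_eq_one hk)
      rw [hi, Nat.Prime.factorization_pow Nat.prime_two, Finsupp.single_eq_same]))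
      (hT.to_le hRT) (zpowers_le.mpr hcN)
  exact le_of_isPGroup_of_not_dvd le_sup_right (sup_le (zpowers_le.mpr hcJ) le_sup_left) hQ hodd
    (mem_sup_left (mem_zpowers c))

/-- If every 2-element of `L` normalising `R` and centralising `R ⊓ L` lies in `R`, then `R` has
odd relative index in `L ⊓ C(R ⊓ L)`. -/
theorem not_two_dvd_relIndex (L : Subgroup G) [L.Normal] {R : Subgroup G} (hR : IsPGroup 2 R)
    (hkey : ∀ c ∈ L, c ∈ normalizer (R : Set G) →
      c ∈ centralizer ((R ⊓ L : Subgroup G) : Set G) → (∃ k : ℕ, c ^ (2 ^ k) = 1) → c ∈ R) :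
    ¬ 2 ∣ R.relIndex (L ⊓ centralizer ((R ⊓ L : Subgroup G) : Set G)) := by
  set Cc := L ⊓ centralizer ((R ⊓ L : Subgroup G) : Set G) with hCc
  have hRL : R ≤ normalizer (L : Set G) := by rw [normalizer_eq_top]; exact le_top
  have hRCc : R ≤ normalizer (Cc : Set G) := Coprime.le_normalizer_inf hRL
    (Coprime.le_normalizer_centralizer (Coprime.le_normalizer_inf Subgroup.le_normalizer hRL))
  let J := Cc ⊔ R
  have hR2 : IsPGroup 2 (R.subgroupOf J) := hR.comap_subtype
  obtain ⟨P, hP⟩ := hR2.exists_le_sylow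
  have hPR : (P : Subgroup J) ≤ R.subgroupOf J := by
    by_contra hne
    have hlt : (R.subgroupOf J).subgroupOf (P : Subgroup J) < ⊤ :=
      lt_top_iff_ne_top.mpr fun h => hne (subgroupOf_eq_top.mp h)
    have hnil : Group.IsNilpotent (P : Subgroup J) := P.isPGroup'.isNilpotent
    obtain ⟨q, hqN, hqR⟩ := SetLike.exists_of_lt (Group.normalizerCondition_of_isNilpotent _ hlt)
    obtain ⟨c, hc, r, hr, he⟩ := Coprime.exists_mul_of_mem_sup hRCc (q : J).2
    have hcq : c = ((q : J) : G) * r⁻¹ := by rw [he, mul_inv_cancel_right]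
    have hrJ : (⟨r, mem_sup_right hr⟩ : J) ∈ (P : Subgroup J) := hP hr
    have hqn : ((q : J) : G) ∈ normalizer (R : Set G) := by
      have hconj : ∀ u : P, u ∈ normalizer
          ((R.subgroupOf J).subgroupOf (P : Subgroup J) : Set (P : Subgroup J)) →
          ∀ z ∈ R, ((u : J) : G) * z * ((u : J) : G)⁻¹ ∈ R := fun u hu z hz =>
        (mem_normalizer_iff.mp hu ⟨⟨z, mem_sup_right hz⟩, hP hz⟩).mp hz
      exact Coprime.mem_normalizer_of_le_iff (hconj q hqN) fun z hz => by
        simpa using hconj q⁻¹ (inv_mem hqN) z hz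
    have hcR : c ∈ R := by
      refine hkey c hc.1 (hcq ▸ mul_mem hqn (inv_mem (Subgroup.le_normalizer hr))) hc.2 ?_
      obtain ⟨k, hk⟩ := P.isPGroup' (⟨q, q.2⟩ * ⟨_, hrJ⟩⁻¹ : (P : Subgroup J))
      refine ⟨k, ?_⟩
      rw [hcq]
      simpa using congrArg (fun u : (P : Subgroup J) => ((u : J) : G)) hk
    exact hqR (show ((q : J) : G) ∈ R from he ▸ mul_mem hcR hr)
  intro h
  haveI : (Cc.subgroupOf J).Normal :=
    ⟨fun y hy g => show (g : G) * (y : G) * (g : G)⁻¹ ∈ Cc from
      Coprime.conj_mem_of_mem_normalizer (sup_le Subgroup.le_normalizer hRCc g.2)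
        (show (y : G) ∈ Cc from hy)⟩
  have h1 := Solvable.relIndex_dvd_index_right_normal (R.subgroupOf J) (Cc.subgroupOf J)
  rw [relIndex_subgroupOf (le_sup_left : Cc ≤ J)] at h1
  have h2 : (R.subgroupOf J) = (P : Subgroup J) := le_antisymm hP hPR
  exact P.not_dvd_index ((h.trans h1).trans (dvd_of_eq (by rw [h2])))

end Cfsg.Agent.Comp22
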