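import Cfsg.Agent.Comp22.Orbit
import Cfsg.Agent.Lib.Fitting

/-!
The trichotomy for a quasisimple subgroup that commutes with its images under a coprime
automorphism and its fixed points.
-/

set_option autoImplicit false

namespace Cfsg.Agent.Comp22

open Subgroup
open scoped commutatorElement
open Cfsg

universe u

variable {U : Type u} [Group U] [Finite U] {r : ℕ} [Fact r.Prime] {α : MulAut U} {K : Subgroup U}

omit [Fact r.Prime] in
/-- Members lie in an invariant characteristic subgroup together with `K`. -/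
theorem le_char_of_mem {D : Subgroup U} [D.Characteristic] {M : Subgroup U} (hM : M ∈ mems α K)
    (h : K ≤ D) : M ≤ D := by
  obtain ⟨g, -, rfl⟩ := hM
  exact (map_mono h).trans (characteristic_iff_map_eq.mp inferInstance g).le

omit [Fact r.Prime] in
theorem le_char_of_mem' {D : Subgroup U} [D.Characteristic] {M : Subgroup U} (hM : M ∈ mems α K)
    (h : M ≤ D) : K ≤ D := by
  obtain ⟨g, -, rfl⟩ := hM
  intro k hk
  have h1 : g k ∈ D := h ⟨k, hk, rfl⟩
  obtain ⟨y, hy, e⟩ := (characteristic_iff_map_eq.mp (inferInstance : D.Characteristic) g).ge h1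
  exact g.injective e ▸ hy

theorem Setup.le_gfit (hhs : HHS.{u}) (S : Setup r α K) :
    K ≤ generalizedFittingSubgroup U := by
  by_contra hne
  set F := generalizedFittingSubgroup U with hF
  have hFN : hgen α K ≤ normalizer (F : Set U) := by rw [normalizer_eq_top]; exact le_top
  set D := hgen α K ⊓ F with hD
  have hDn : hgen α K ≤ normalizer (D : Set U) :=
    Coprime.le_normalizer_inf Subgroup.le_normalizer hFN
  have hDc : D ≤ centralizer (hgen α K : Set U) :=
    S.centralizes_of_central inf_le_left hDn fun M hM h =>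
      hne (le_char_of_mem' hM (h.trans inf_le_right))
  have hFc : F ≤ centralizer (hgen α K : Set U) := by
    refine S.centralizes_sub hhs F hFN
      (fun x hx => (characteristic_iff_map_eq.mp inferInstance α).le ⟨x, hx, rfl⟩)
      fun c hc hcα => mem_centralizer_of_central S.hgen_perfect fun h hh => ?_
    have h1 : c * h * c⁻¹ * h⁻¹ ∈ hgen α K := mul_mem
      (Coprime.conj_mem_of_mem_normalizer (fix_normalizes_hgen (mem_fixA.mpr hcα)) hh)
      (inv_mem hh)
    refine mem_inf.mpr ⟨h1, hDc (mem_inf.mpr ⟨h1, ?_⟩)⟩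
    rw [mul_assoc, mul_assoc, ← mul_assoc h]
    exact mul_mem hc (Coprime.conj_mem_of_mem_normalizer (hFN hh) (inv_mem hc))
  exact hne ((le_hgen (self_mem_mems α K)).trans
    ((le_centralizer_iff.mp hFc).trans Components.centralizer_generalizedFitting_le))

theorem Setup.le_layer (hhs : HHS.{u}) (S : Setup r α K) : K ≤ layer U := by
  have hsol : Group.IsSolvable ↥(fittingSubgroup U) := by
    haveI := Fitting.fitting_isNilpotent (G := U)
    infer_instance
  obtain ⟨n, hn⟩ := hsol.solvable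
  have h : ∀ j, K ≤ layer U ⊔
      (derivedSeries ↥(fittingSubgroup U) j).map (fittingSubgroup U).subtype := by
    intro j
    induction j with
    | zero =>
      refine (S.le_gfit hhs).trans (sup_le_sup_left ?_ _)
      intro f hf
      exact ⟨⟨f, hf⟩, mem_top _, rfl⟩
    | succ j ih =>
      rw [← perfect_of_qs S.qs, derivedSeries_succ, map_commutator]
      refine (commutator_mono ih ih).trans (commutator_sup_le ?_)
      rw [normalizer_eq_top]; exact le_top
  have := h n
  rwa [hn, Subgroup.map_bot, sup_bot_eq] at this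

theorem Setup.mem_le_layer (hhs : HHS.{u}) (S : Setup r α K) {M : Subgroup U}
    (hM : M ∈ mems α K) : M ≤ layer U :=
  le_char_of_mem hM (S.le_layer hhs)

theorem Setup.hgen_le_layer (hhs : HHS.{u}) (S : Setup r α K) : hgen α K ≤ layer U :=
  sSup_le fun _ hM => S.mem_le_layer hhs hM

theorem Setup.exists_component (hhs : HHS.{u}) (S : Setup r α K) :
    ∃ L : Subgroup U, IsComponent L ∧ ¬ K ≤ centralizer (L : Set U) := by
  by_contra hne
  push Not at hne
  have h : layer U ≤ centralizer (K : Set U) :=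
    Components.layer_le_iff.mpr fun L hL => le_centralizer_iff.mp (hne L hL)
  have h1 : K ≤ centralizer (K : Set U) := (S.le_layer hhs).trans h
  apply Components.not_isMulCommutative_of_isQuasisimple S.qs
  exact ⟨⟨fun a b => Subtype.ext (mem_centralizer_iff.mp (h1 b.2) a a.2)⟩⟩

/-- A member seen by an invariant component and by another one: impossible. -/
theorem Setup.invariant_only (hhs : HHS.{u}) (S : Setup r α K) {L L' : Subgroup U}
    (hL : IsComponent L) (hL' : IsComponent L') (hne : L' ≠ L)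
    (hinv : L.map α.toMonoidHom = L) (hK : ¬ K ≤ centralizer (L : Set U)) :
    K ≤ centralizer (L' : Set U) := by
  by_contra hK'
  apply hK
  refine (le_hgen (self_mem_mems α K)).trans (le_centralizer_iff.mp ?_)
  refine S.centralizes_sub hhs L
    ((S.hgen_le_layer hhs).trans (Components.layer_le_normalizer hL))
    (fun x hx => hinv.le ⟨x, hx, rfl⟩) fun c hc hcα => ?_
  suffices h : hgen α K ≤ centralizer ({c} : Set U) from
    mem_centralizer_iff.mpr fun h' hh' => mem_centralizer_singleton_iff.mp (h hh')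
  refine sSup_le fun M hM m hm => mem_centralizer_singleton_iff.mpr ?_
  by_cases hML : M ≤ centralizer (L : Set U)
  · exact (mem_centralizer_iff.mp (hML hm) c hc).symm
  obtain ⟨L2, hL2, hne2, hML2⟩ :
      ∃ L2, IsComponent L2 ∧ L2 ≠ L ∧ ¬ M ≤ centralizer (L2 : Set U) := by
    obtain ⟨g, hg, e⟩ := hM
    have htr : ∀ L₀ : Subgroup U, ¬ K ≤ centralizer (L₀ : Set U) →
        ¬ M ≤ centralizer ((L₀.map g.toMonoidHom : Subgroup U) : Set U) := by
      intro L₀ h0 h1
      refine h0 fun k hk => mem_centralizer_iff.mpr fun x hx => g.injective ?_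
      rw [map_mul, map_mul]
      exact mem_centralizer_iff.mp (h1 (e ▸ ⟨k, hk, rfl⟩)) _ ⟨x, hx, rfl⟩
    by_cases hgL : L.map g.toMonoidHom = L
    · refine ⟨_, Components.component_map_equiv g hL', fun h => hne ?_, htr L' hK'⟩
      exact map_injective g.injective (h.trans hgL.symm)
    · exact ⟨_, Components.component_map_equiv g hL, hgL, htr L hK⟩
  have hcE : c ∈ layer U := Components.component_le_layer hL hc
  have hcL2 : c ∈ centralizer (L2 : Set U) :=
    Components.component_le_centralizer hL hL2 (Ne.symm hne2) hc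
  have hDn : layer U ≤ normalizer (cn L2 : Set U) := layer_normalizes_cn hL2
  have hME := S.mem_le_layer hhs hM
  have hMc : M.map (MulAut.conj c).toMonoidHom = M := by
    by_contra h'
    refine hML2 ((perfect_le_of_congr (S.mem_perfect hM) (hME.trans hDn) fun x hx => ?_).trans
      inf_le_right)
    refine ⟨c * x * c⁻¹, S.mem_le_centralizer
      (map_mem_mems (conj_mem_gam (mem_fixA.mpr hcα)) hM) hM h' ⟨x, hx, rfl⟩, ?_⟩
    have e : x * (c * x * c⁻¹)⁻¹ = (x * c * x⁻¹) * c⁻¹ := by group
    rw [e]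
    exact mul_mem (Coprime.conj_mem_of_mem_normalizer (hDn (hME hx))
      (mem_inf.mpr ⟨hcE, hcL2⟩)) (inv_mem (mem_inf.mpr ⟨hcE, hcL2⟩))
  have hcM : c ∈ centralizer (M : Set U) := by
    refine mem_centralizer_of_central (S.mem_perfect hM) fun x hx => ?_
    have h1 : c * x * c⁻¹ * x⁻¹ ∈ M := mul_mem (hMc.le ⟨x, hx, rfl⟩) (inv_mem hx)
    have h2 : c * x * c⁻¹ * x⁻¹ ∈ cn L2 := by
      rw [mul_assoc, mul_assoc, ← mul_assoc x]
      exact mul_mem (mem_inf.mpr ⟨hcE, hcL2⟩)
        (Coprime.conj_mem_of_mem_normalizer (hDn (hME hx)) (inv_mem (mem_inf.mpr ⟨hcE, hcL2⟩)))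
    exact mem_inf.mpr ⟨h1, ((le_or_inf_le_center (S.mem_qs hM) (hME.trans hDn)).resolve_left
      fun h => hML2 (h.trans inf_le_right)) (mem_inf.mpr ⟨h1, h2⟩)⟩
  exact mem_centralizer_iff.mp hcM m hm

/-- A member seen by a moved component covers it, and is the only one. -/
theorem Setup.moved_unique (hhs : HHS.{u}) (S : Setup r α K) {L : Subgroup U}
    (hL : IsComponent L) (hmov : L.map α.toMonoidHom ≠ L) {M : Subgroup U} (hM : M ∈ mems α K)
    (hML : ¬ M ≤ centralizer (L : Set U)) :
    L ≤ M ⊔ cn L ∧ ∀ M' ∈ mems α K, M' ≠ M → M' ≤ centralizer (L : Set U) := by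
  have hHE := S.hgen_le_layer hhs
  have hcover : ∀ P : Subgroup U, cn L ≤ P → M ≤ P → L ≤ normalizer (P : Set U) → L ≤ P := by
    intro P _ hMP hn
    rcases Components.component_le_or_commutator_eq_bot_of_le_normalizer hL hn with h | h
    · exact h
    · exact absurd (hMP.trans (le_centralizer_iff.mp
        (commutator_eq_bot_iff_le_centralizer.mp h))) hML
  have hLP : L ≤ hgen α K ⊔ cn L := by
    refine hcover _ le_sup_right ((le_hgen hM).trans le_sup_left) fun l hl => ?_
    obtain ⟨c, hc, hcE, hz, -⟩ := exists_orbit_fixed S.pow hL hmov hl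
    have hcn : c ∈ normalizer ((hgen α K ⊔ cn L : Subgroup U) : Set U) := by
      refine Coprime.le_normalizer_sup (A := zpowers c) (zpowers_le.mpr (fix_normalizes_hgen hc))
        (zpowers_le.mpr (layer_normalizes_cn hL hcE)) (mem_zpowers c)
    have hzn : l⁻¹ * c ∈ normalizer ((hgen α K ⊔ cn L : Subgroup U) : Set U) :=
      Subgroup.le_normalizer (mem_sup_right hz)
    have := mul_mem hcn (inv_mem hzn)
    rwa [mul_inv_rev, inv_inv, mul_inv_cancel_left] at this
  have hLM : L ≤ M ⊔ cn L := by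
    refine hcover _ le_sup_right le_sup_left (hLP.trans (sup_le ?_ ?_))
    · exact Coprime.le_normalizer_sup (S.hgen_normalizes hM) (hHE.trans (layer_normalizes_cn hL))
    · exact le_trans (le_sup_right) Subgroup.le_normalizer
  refine ⟨hLM, fun M' hM' hne m hm => ?_⟩
  have hME := S.mem_le_layer hhs hM
  have hmE := S.mem_le_layer hhs hM' hm
  refine mem_centralizer_of_central (Components.component_commutator_eq_self hL) fun l hl => ?_
  have h1 : m * l * m⁻¹ * l⁻¹ ∈ L := mul_mem
    (Coprime.conj_mem_of_mem_normalizer (Components.layer_le_normalizer hL hmE) hl) (inv_mem hl)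
  refine mem_inf.mpr ⟨h1, ?_⟩
  obtain ⟨z, hz, k, hk, e⟩ := Coprime.exists_mul_of_mem_sup (hME.trans (layer_normalizes_cn hL))
    (sup_comm M (cn L) ▸ hLM hl)
  have hmk : k * m = m * k :=
    mem_centralizer_iff.mp (S.mem_le_centralizer hM' hM hne hm) k hk
  have e2 : m * l * m⁻¹ * l⁻¹ = m * z * m⁻¹ * z⁻¹ := by
    rw [e]
    calc m * (z * k) * m⁻¹ * (z * k)⁻¹ = m * z * (k * m⁻¹) * k⁻¹ * z⁻¹ := by group
      _ = m * z * (m⁻¹ * k) * k⁻¹ * z⁻¹ := by
        rw [show k * m⁻¹ = m⁻¹ * k from (Commute.inv_right (show Commute k m from hmk)).eq]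
      _ = _ := by group
  rw [e2]
  exact (mem_inf.mp (mul_mem
    (Coprime.conj_mem_of_mem_normalizer (layer_normalizes_cn hL hmE) hz) (inv_mem hz))).2

theorem Setup.not_invariant_of_moved (hhs : HHS.{u}) (S : Setup r α K) {L : Subgroup U}
    (hL : IsComponent L) (hmov : L.map α.toMonoidHom ≠ L) (hK : ¬ K ≤ centralizer (L : Set U)) :
    K.map α.toMonoidHom ≠ K := by
  intro hKα
  apply S.moved
  have hKE := S.le_layer hhs
  have hKn : ∀ x ∈ K, α x ∈ K := fun x hx => hKα.le ⟨x, hx, rfl⟩
  have hcent : ∀ k ∈ K, k⁻¹ * α k ∈ K ⊓ centralizer (K : Set U) := by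
    intro k hk
    refine mem_inf.mpr ⟨mul_mem (inv_mem hk) (hKn k hk), ?_⟩
    obtain ⟨l, hl, z, hz, e⟩ := exists_decomp hL (hKE hk)
    obtain ⟨c, hc, hcE, hcl, -⟩ := exists_orbit_fixed S.pow hL hmov hl
    have hu : k⁻¹ * c ∈ cn L := by
      have e2 : k⁻¹ * c = z⁻¹ * (l⁻¹ * c) := by rw [e]; group
      rw [e2]; exact mul_mem (inv_mem hz) hcl
    have hfixK : K.map (MulAut.conj c).toMonoidHom = K := by
      by_contra h'
      have h1 := (S.moved_unique hhs hL hmov (self_mem_mems α K) hK).2 _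
        (map_mem_mems (conj_mem_gam hc) (self_mem_mems α K)) h'
      refine hK fun x hx => mem_centralizer_iff.mpr fun y hy => ?_
      have hy' : c * y * c⁻¹ ∈ L :=
        Coprime.conj_mem_of_mem_normalizer (Components.layer_le_normalizer hL hcE) hy
      have h2 := mem_centralizer_iff.mp (h1 ⟨x, hx, rfl⟩) _ hy'
      simp only [MulEquiv.coe_toMonoidHom, MulAut.conj_apply] at h2
      have h3 : c * (y * x) * c⁻¹ = c * (x * y) * c⁻¹ := by
        calc c * (y * x) * c⁻¹ = c * y * c⁻¹ * (c * x * c⁻¹) := by group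
          _ = c * x * c⁻¹ * (c * y * c⁻¹) := h2
          _ = _ := by group
      exact mul_left_cancel (mul_right_cancel h3)
    have hcu : k⁻¹ * c ∈ centralizer (K : Set U) := by
      refine mem_centralizer_of_central (perfect_of_qs S.qs) fun x hx => ?_
      have hv : (k⁻¹ * c) * x * (k⁻¹ * c)⁻¹ ∈ K := by
        have h1 : c * x * c⁻¹ ∈ K := hfixK.le ⟨x, hx, rfl⟩
        have h2 := mul_mem (mul_mem (inv_mem hk) h1) hk
        simpa [mul_assoc] using h2
      have h2 : (k⁻¹ * c) * x * (k⁻¹ * c)⁻¹ * x⁻¹ ∈ cn L := by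
        rw [mul_assoc, mul_assoc, ← mul_assoc x]
        exact mul_mem hu (Coprime.conj_mem_of_mem_normalizer
          (layer_normalizes_cn hL (hKE hx)) (inv_mem hu))
      exact mem_inf.mpr ⟨mul_mem hv (inv_mem hx),
        ((le_or_inf_le_center S.qs (hKE.trans (layer_normalizes_cn hL))).resolve_left
          fun h => hK (h.trans inf_le_right)) (mem_inf.mpr ⟨mul_mem hv (inv_mem hx), h2⟩)⟩
    refine mem_centralizer_iff.mpr fun y hy => ?_
    obtain ⟨x, hx, rfl⟩ := hKα.ge hy
    simp only [MulEquiv.coe_toMonoidHom]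
    have e1 : ∀ v ∈ K, c * v * c⁻¹ = k * v * k⁻¹ := fun v hv => by
      have h1 := mem_centralizer_iff.mp hcu v hv
      calc c * v * c⁻¹ = k * ((k⁻¹ * c) * v) * c⁻¹ := by group
        _ = k * (v * (k⁻¹ * c)) * c⁻¹ := by rw [h1]
        _ = _ := by group
    have h2 : α (c * x * c⁻¹) = α (k * x * k⁻¹) := by rw [e1 x hx]
    rw [map_mul, map_mul, map_inv, mem_fixA.mp hc, map_mul, map_mul, map_inv,
      e1 _ (hKn x hx)] at h2
    calc α x * (k⁻¹ * α k) = k⁻¹ * (k * α x * k⁻¹) * α k := by group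
      _ = k⁻¹ * (α k * α x * (α k)⁻¹) * α k := by rw [h2]
      _ = k⁻¹ * α k * α x := by group
  let f : K →* U := MonoidHom.mk' (fun x => (x : U)⁻¹ * α (x : U)) fun x y => by
    have h1 : (y : U) * ((x : U)⁻¹ * α (x : U)) = (x : U)⁻¹ * α (x : U) * (y : U) :=
      mem_centralizer_iff.mp (mem_inf.mp (hcent x x.2)).2 y y.2
    calc ((x * y : K) : U)⁻¹ * α ((x * y : K) : U)
        = (y : U)⁻¹ * (((x : U)⁻¹ * α (x : U)) * (y : U)) * ((y : U)⁻¹ * α (y : U)) := by
          simp only [Subgroup.coe_mul, map_mul]; group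
      _ = _ := by rw [← h1]; group
  intro k hk
  have h := eq_one_of_perfect (perfect_of_qs S.qs) f (fun a b =>
    ((mem_centralizer_iff.mp (mem_inf.mp (hcent b b.2)).2 _
      (mem_inf.mp (hcent a a.2)).1) : _)) ⟨k, hk⟩
  exact mem_fixA.mpr (inv_mul_eq_one.mp h).symm

/-- The moved component seen by `K` is the only component seen by `K`. -/
theorem Setup.moved_only (hhs : HHS.{u}) (S : Setup r α K) {L L' : Subgroup U}
    (hL : IsComponent L) (hL' : IsComponent L') (hne : L' ≠ L)
    (hmov : L.map α.toMonoidHom ≠ L) (hK : ¬ K ≤ centralizer (L : Set U)) :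
    K ≤ centralizer (L' : Set U) := by
  by_contra hK'
  have hmov' : L'.map α.toMonoidHom ≠ L' := fun h =>
    hK (S.invariant_only hhs hL' hL hne.symm h hK')
  by_cases horb : ∃ i : ℕ, L.map (α ^ i).toMonoidHom = L'
  · obtain ⟨i, hi⟩ := horb
    have hri : ¬ r ∣ i := by
      rintro ⟨j, rfl⟩
      rw [pow_mul, S.pow, one_pow, map_one_aut] at hi
      exact hne hi.symm
    refine S.not_invariant_of_moved hhs hL hmov hK (map_eq_of_pow S.pow hri ?_)
    by_contra h'
    have hg : α ^ i ∈ gam α := pow_mem (self_mem_gam α) i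
    have h1 := (S.moved_unique hhs hL' hmov' (self_mem_mems α K) hK').2 _
      (map_mem_mems hg (self_mem_mems α K)) h'
    refine hK fun k hk => mem_centralizer_iff.mpr fun x hx => (α ^ i).injective ?_
    rw [map_mul, map_mul]
    exact mem_centralizer_iff.mp (h1 ⟨k, hk, rfl⟩) _ (hi.le ⟨x, hx, rfl⟩)
  push Not at horb
  apply hK
  have hKE := S.le_layer hhs
  have hkey : ∀ l ∈ L, ∃ c ∈ centralizer (K : Set U), l⁻¹ * c ∈ cn L := by
    intro l hl
    obtain ⟨c, hc, hcE, hcl, hcd⟩ := exists_orbit_fixed S.pow hL hmov hl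
    have hcL' := hcd L' hL' horb
    have hfixK : K.map (MulAut.conj c).toMonoidHom = K := by
      by_contra h'
      have h1 := (S.moved_unique hhs hL' hmov' (self_mem_mems α K) hK').2 _
        (map_mem_mems (conj_mem_gam hc) (self_mem_mems α K)) h'
      refine hK' fun x hx => mem_centralizer_iff.mpr fun y hy => ?_
      have h2 := mem_centralizer_iff.mp (h1 ⟨x, hx, rfl⟩) y hy
      have h3 : y * c = c * y := mem_centralizer_iff.mp hcL' y hy
      simp only [MulEquiv.coe_toMonoidHom, MulAut.conj_apply] at h2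
      have h4 : c * (y * x) * c⁻¹ = c * (x * y) * c⁻¹ := by
        calc c * (y * x) * c⁻¹ = (c * y) * x * c⁻¹ := by group
          _ = y * (c * x * c⁻¹) := by rw [← h3]; group
          _ = c * x * c⁻¹ * y := h2
          _ = c * x * (c⁻¹ * y) := by group
          _ = c * x * (y * c⁻¹) := by
            rw [show c⁻¹ * y = y * c⁻¹ from (Commute.inv_left (show Commute c y from h3.symm)).eq]
          _ = _ := by group
      exact mul_left_cancel (mul_right_cancel h4)
    have hcn : c ∈ cn L' := mem_inf.mpr ⟨hcE, hcL'⟩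
    have hcK : c ∈ centralizer (K : Set U) := by
      refine mem_centralizer_of_central (perfect_of_qs S.qs) fun x hx => ?_
      have hv : c * x * c⁻¹ * x⁻¹ ∈ K := mul_mem (hfixK.le ⟨x, hx, rfl⟩) (inv_mem hx)
      have h2 : c * x * c⁻¹ * x⁻¹ ∈ cn L' := by
        rw [mul_assoc, mul_assoc, ← mul_assoc x]
        exact mul_mem hcn (Coprime.conj_mem_of_mem_normalizer
          (layer_normalizes_cn hL' (hKE hx)) (inv_mem hcn))
      exact mem_inf.mpr ⟨hv, ((le_or_inf_le_center S.qs
        (hKE.trans (layer_normalizes_cn hL'))).resolve_left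
          fun h => hK' (h.trans inf_le_right)) (mem_inf.mpr ⟨hv, h2⟩)⟩
    exact ⟨c, hcK, hcl⟩
  intro k hk
  have hkE := hKE hk
  refine mem_centralizer_of_central (Components.component_commutator_eq_self hL) fun y hy => ?_
  refine mem_inf.mpr ⟨mul_mem (Coprime.conj_mem_of_mem_normalizer
      (Components.layer_le_normalizer hL hkE) hy) (inv_mem hy), ?_⟩
  obtain ⟨c, hcK, hcy⟩ := hkey y hy
  have hkc : k * c = c * k := mem_centralizer_iff.mp hcK k hk
  -- `y⁻¹ c = z`: then `k y k⁻¹ y⁻¹ = y (z (k z k⁻¹)⁻¹) y⁻¹`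
  have h1 : k * (y⁻¹ * c) * k⁻¹ ∈ cn L :=
    Coprime.conj_mem_of_mem_normalizer (layer_normalizes_cn hL hkE) hcy
  have hd := Coprime.conj_mem_of_mem_normalizer
    (layer_normalizes_cn hL (Components.component_le_layer hL hy)) (mul_mem hcy (inv_mem h1))
  have e : k * y * k⁻¹ * y⁻¹ = y * ((y⁻¹ * c) * (k * (y⁻¹ * c) * k⁻¹)⁻¹) * y⁻¹ := by
    calc k * y * k⁻¹ * y⁻¹ = (k * c) * c⁻¹ * y * k⁻¹ * y⁻¹ := by group
      _ = (c * k) * c⁻¹ * y * k⁻¹ * y⁻¹ := by rw [hkc]
      _ = _ := by group
  rw [e]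
  exact (mem_inf.mp hd).2

/-- The trichotomy, when `K` is not centralised by `α`. -/
theorem Setup.main (hhs : HHS.{u}) (S : Setup r α K) :
    IsComponent K ∨ ∃ L, IsComponent L ∧ L.map α.toMonoidHom = L ∧ K ≤ L := by
  obtain ⟨L, hL, hK⟩ := S.exists_component hhs
  have hKE := S.le_layer hhs
  by_cases hinv : L.map α.toMonoidHom = L
  · exact Or.inr ⟨L, hL, hinv, le_component (perfect_of_qs S.qs) hKE hL
      fun L' hL' hne => S.invariant_only hhs hL hL' hne hinv hK⟩
  · left
    have hKL : K ≤ L := le_component (perfect_of_qs S.qs) hKE hL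
      fun L' hL' hne => S.moved_only hhs hL hL' hne hinv hK
    have hcov := (S.moved_unique hhs hL hinv (self_mem_mems α K) hK).1
    suffices h : L ≤ K by rwa [le_antisymm hKL h]
    let Z := L ⊓ centralizer (L : Set U)
    have hLZ : L ≤ Z ⊔ K := by
      intro l hl
      obtain ⟨z, hz, k, hk, e⟩ := Coprime.exists_mul_of_mem_sup
        (hKE.trans (layer_normalizes_cn hL)) (sup_comm K (cn L) ▸ hcov hl)
      have hzL : z ∈ L := by
        have := mul_mem hl (inv_mem (hKL hk))
        rwa [e, mul_inv_cancel_right] at this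
      rw [e]
      exact mul_mem_sup (mem_inf.mpr ⟨hzL, (mem_inf.mp hz).2⟩) hk
    have hKZ : K ≤ centralizer (Z : Set U) :=
      hKL.trans (le_centralizer_iff.mp inf_le_right)
    calc L = ⁅L, L⁆ := (Components.component_commutator_eq_self hL).symm
      _ ≤ ⁅K ⊔ Z, K ⊔ Z⁆ := commutator_mono (hLZ.trans (sup_comm Z K).le) (hLZ.trans (sup_comm Z K).le)
      _ ≤ K ⊔ ⁅Z, Z⁆ := commutator_sup_le
          ((le_centralizer_iff.mp hKZ).trans (centralizer_le_normalizer _))
      _ = K := by
        rw [(commutator_eq_bot_iff_le_centralizer.mpr (inf_le_right.trans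
          (centralizer_le inf_le_left)) : ⁅Z, Z⁆ = ⊥), sup_bot_eq]

end Cfsg.Agent.Comp22
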