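import Cfsg.Agent.Comp22.Claim
import Cfsg.Agent.Lib.Components.GenFitting

/-!
The orbit of a quasisimple subgroup under a coprime automorphism and its fixed points.
-/

set_option autoImplicit false

namespace Cfsg.Agent.Comp22

open Subgroup
open scoped commutatorElement

universe u

variable {U : Type u} [Group U]

/-- If each element of a perfect `M` is congruent modulo `D` to an element centralising `M`, then
`M ≤ D`. -/
theorem perfect_le_of_congr {M D : Subgroup U} (hM : ⁅M, M⁆ = M)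
    (hn : M ≤ normalizer (D : Set U))
    (h : ∀ m ∈ M, ∃ y ∈ centralizer (M : Set U), m * y⁻¹ ∈ D) : M ≤ D := by
  rw [← hM]
  refine commutator_le.mpr fun m hm n hn' => ?_
  obtain ⟨y, hy, hd⟩ := h m hm
  have hyn : n * y = y * n := mem_centralizer_iff.mp hy n hn'
  have e : ⁅m, n⁆ = (m * y⁻¹) * (n * (m * y⁻¹)⁻¹ * n⁻¹) := by
    rw [commutatorElement_def]
    calc m * n * m⁻¹ * n⁻¹ = (m * y⁻¹) * (y * n * y⁻¹) * (m * y⁻¹)⁻¹ * n⁻¹ := by group
      _ = (m * y⁻¹) * n * (m * y⁻¹)⁻¹ * n⁻¹ := by rw [← hyn, mul_inv_cancel_right]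
      _ = _ := by group
  rw [e]
  exact mul_mem hd (Coprime.conj_mem_of_mem_normalizer (hn hn') (inv_mem hd))

/-- An element inducing central commutators on a perfect subgroup centralises it. -/
theorem mem_centralizer_of_central {M : Subgroup U} (hM : ⁅M, M⁆ = M) {c : U}
    (h : ∀ m ∈ M, c * m * c⁻¹ * m⁻¹ ∈ M ⊓ centralizer (M : Set U)) :
    c ∈ centralizer (M : Set U) := by
  let f : M →* U := MonoidHom.mk' (fun m => c * (m : U) * c⁻¹ * (m : U)⁻¹) fun m n => by
    have h1 : (m : U) * (c * (n : U) * c⁻¹ * (n : U)⁻¹) =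
        (c * (n : U) * c⁻¹ * (n : U)⁻¹) * (m : U) :=
      mem_centralizer_iff.mp (mem_inf.mp (h n n.2)).2 m m.2
    calc c * ((m * n : M) : U) * c⁻¹ * ((m * n : M) : U)⁻¹
        = c * (m : U) * c⁻¹ * (m : U)⁻¹ * ((m : U) * (c * (n : U) * c⁻¹ * (n : U)⁻¹)) *
            (m : U)⁻¹ := by simp only [Subgroup.coe_mul]; group
      _ = _ := by rw [h1]; group
  refine mem_centralizer_iff.mpr fun m hm => ?_
  have h1 : f ⟨m, hm⟩ = 1 := eq_one_of_perfect hM f (fun a b =>
    ((mem_centralizer_iff.mp (mem_inf.mp (h b b.2)).2 _ (mem_inf.mp (h a a.2)).1) : _)) ⟨m, hm⟩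
  have h2 : c * m * c⁻¹ * m⁻¹ = 1 := h1
  rw [mul_inv_eq_one, mul_inv_eq_iff_eq_mul] at h2
  exact h2.symm

/-- A quasisimple subgroup lies in, or meets centrally, each subgroup it normalises. -/
theorem le_or_inf_le_center {M D : Subgroup U} (hM : Cfsg.IsQuasisimple M)
    (hn : M ≤ normalizer (D : Set U)) : M ≤ D ∨ M ⊓ D ≤ centralizer (M : Set U) := by
  haveI : (D.subgroupOf M).Normal := ⟨fun y hy g =>
    show (g : U) * (y : U) * (g : U)⁻¹ ∈ D from
      Coprime.conj_mem_of_mem_normalizer (hn g.2) (show (y : U) ∈ D from hy)⟩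
  rcases Components.normal_eq_top_or_le_center hM (D.subgroupOf M) with h | h
  · exact Or.inl (subgroupOf_eq_top.mp h)
  · refine Or.inr fun x hx => mem_centralizer_iff.mpr fun m hm => ?_
    exact congrArg Subtype.val
      (mem_center_iff.mp (h (show (⟨x, (mem_inf.mp hx).1⟩ : M) ∈ D.subgroupOf M from
        (mem_inf.mp hx).2)) ⟨m, hm⟩)

theorem conj_mul_mul_inv (f : MulAut U) (u : U) :
    f * MulAut.conj u * f⁻¹ = MulAut.conj (f u) :=
  DFunLike.ext _ _ fun x => by simp

/-- The fixed points of an automorphism. -/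
def fixA (α : MulAut U) : Subgroup U := α.toMonoidHom.eqLocus (MonoidHom.id U)

theorem mem_fixA {α : MulAut U} {x : U} : x ∈ fixA α ↔ α x = x := Iff.rfl

/-- The group generated by `α` and the inner automorphisms of its fixed points. -/
def gam (α : MulAut U) : Subgroup (MulAut U) :=
  zpowers α ⊔ (fixA α).map (MulAut.conj : U →* MulAut U)

theorem gam_comm {α g : MulAut U} (hg : g ∈ gam α) : α * g = g * α := by
  have h : gam α ≤ centralizer ({α} : Set (MulAut U)) := by
    refine sup_le (zpowers_le.mpr (mem_centralizer_singleton_iff.mpr rfl)) ?_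
    rintro _ ⟨c, hc, rfl⟩
    refine mem_centralizer_singleton_iff.mpr (mul_inv_eq_iff_eq_mul.mp ?_).symm
    rw [conj_mul_mul_inv, mem_fixA.mp hc]
  exact (mem_centralizer_singleton_iff.mp (h hg)).symm

theorem gam_fix {α g : MulAut U} (hg : g ∈ gam α) {x : U} (hx : x ∈ fixA α) :
    g x ∈ fixA α := by
  have := DFunLike.congr_fun (gam_comm hg) x
  simp only [MulAut.mul_apply, mem_fixA.mp hx] at this
  exact this

theorem self_mem_gam (α : MulAut U) : α ∈ gam α := mem_sup_left (mem_zpowers α)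

theorem conj_mem_gam {α : MulAut U} {c : U} (hc : c ∈ fixA α) : MulAut.conj c ∈ gam α :=
  mem_sup_right ⟨c, hc, rfl⟩

/-- The images of `K`. -/
def mems (α : MulAut U) (K : Subgroup U) : Set (Subgroup U) :=
  {M | ∃ g ∈ gam α, K.map g.toMonoidHom = M}

/-- The subgroup generated by the images of `K`. -/
def hgen (α : MulAut U) (K : Subgroup U) : Subgroup U := sSup (mems α K)

theorem map_map_aut (g h : MulAut U) (M : Subgroup U) :
    (M.map h.toMonoidHom).map g.toMonoidHom = M.map (g * h).toMonoidHom := by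
  rw [Subgroup.map_map]; rfl

theorem map_one_aut (M : Subgroup U) : M.map (1 : MulAut U).toMonoidHom = M :=
  Subgroup.map_id M

theorem self_mem_mems (α : MulAut U) (K : Subgroup U) : K ∈ mems α K :=
  ⟨1, one_mem _, map_one_aut K⟩

theorem map_mem_mems {α g : MulAut U} {K M : Subgroup U} (hg : g ∈ gam α) (hM : M ∈ mems α K) :
    M.map g.toMonoidHom ∈ mems α K := by
  obtain ⟨h, hh, rfl⟩ := hM
  exact ⟨g * h, mul_mem hg hh, (map_map_aut g h K).symm⟩

theorem le_hgen {α : MulAut U} {K M : Subgroup U} (hM : M ∈ mems α K) : M ≤ hgen α K := le_sSup hM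

theorem gam_hgen {α g : MulAut U} {K : Subgroup U} (hg : g ∈ gam α) {x : U}
    (hx : x ∈ hgen α K) : g x ∈ hgen α K := by
  have : hgen α K ≤ (hgen α K).comap g.toMonoidHom :=
    sSup_le fun M hM => map_le_iff_le_comap.mp (le_hgen (map_mem_mems hg hM))
  exact this hx

theorem fix_normalizes_hgen [Finite U] {α : MulAut U} {K : Subgroup U} {c : U}
    (hc : c ∈ fixA α) : c ∈ normalizer (hgen α K : Set U) := by
  refine Coprime.mem_normalizer_of_le_iff (fun x hx => gam_hgen (conj_mem_gam hc) hx)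
    fun x hx => ?_
  simpa using gam_hgen (conj_mem_gam (inv_mem hc)) hx

/-- The situation of the component trichotomy. -/
structure Setup (r : ℕ) (α : MulAut U) (K : Subgroup U) : Prop where
  pow : α ^ r = 1
  copU : ¬ r ∣ Nat.card U
  qs : Cfsg.IsQuasisimple K
  comm : ∀ g ∈ gam α, K.map g.toMonoidHom ≠ K → ⁅K, K.map g.toMonoidHom⁆ = ⊥
  moved : ¬ K ≤ fixA α

variable {r : ℕ} {α : MulAut U} {K : Subgroup U}

theorem perfect_of_qs {M : Subgroup U} (h : Cfsg.IsQuasisimple M) : ⁅M, M⁆ = M :=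
  Subgroup.isPerfect_iff.mp h.1

theorem Setup.mem_qs (S : Setup r α K) {M : Subgroup U} (hM : M ∈ mems α K) :
    Cfsg.IsQuasisimple M := by
  obtain ⟨g, -, rfl⟩ := hM
  exact Components.isQuasisimple_of_mulEquiv (K.equivMapOfInjective _ g.injective) S.qs

theorem Setup.mem_perfect (S : Setup r α K) {M : Subgroup U} (hM : M ∈ mems α K) : ⁅M, M⁆ = M :=
  perfect_of_qs (S.mem_qs hM)

theorem Setup.mem_moved (S : Setup r α K) {M : Subgroup U} (hM : M ∈ mems α K) :
    ¬ M ≤ fixA α := by
  obtain ⟨g, hg, rfl⟩ := hM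
  intro h
  refine S.moved fun k hk => ?_
  have := gam_fix (inv_mem hg) (h ⟨k, hk, rfl⟩)
  simpa using this

theorem Setup.mem_comm (S : Setup r α K) {M M' : Subgroup U} (hM : M ∈ mems α K)
    (hM' : M' ∈ mems α K) (hne : M ≠ M') : ⁅M, M'⁆ = ⊥ := by
  obtain ⟨g, hg, rfl⟩ := hM
  obtain ⟨h, hh, rfl⟩ := hM'
  have e : (K.map (g⁻¹ * h).toMonoidHom).map g.toMonoidHom = K.map h.toMonoidHom := by
    rw [map_map_aut, mul_inv_cancel_left]
  have h1 := S.comm (g⁻¹ * h) (mul_mem (inv_mem hg) hh) fun h' => hne (by rw [← e, h'])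
  rw [← e, ← map_commutator, h1, Subgroup.map_bot]

theorem Setup.mem_le_centralizer (S : Setup r α K) {M M' : Subgroup U} (hM : M ∈ mems α K)
    (hM' : M' ∈ mems α K) (hne : M ≠ M') : M ≤ centralizer (M' : Set U) :=
  commutator_eq_bot_iff_le_centralizer.mp (S.mem_comm hM hM' hne)

theorem Setup.hgen_normalizes (S : Setup r α K) {M : Subgroup U} (hM : M ∈ mems α K) :
    hgen α K ≤ normalizer (M : Set U) := by
  refine sSup_le fun M' hM' => ?_
  rcases eq_or_ne M' M with rfl | hne
  · exact Subgroup.le_normalizer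
  · exact (S.mem_le_centralizer hM' hM hne).trans (centralizer_le_normalizer _)

theorem Setup.hgen_perfect (S : Setup r α K) : ⁅hgen α K, hgen α K⁆ = hgen α K := by
  refine le_antisymm (commutator_le_self _) (sSup_le fun M hM => ?_)
  calc M = ⁅M, M⁆ := (S.mem_perfect hM).symm
    _ ≤ _ := commutator_mono (le_hgen hM) (le_hgen hM)

/-- A subgroup normalised by `H` that meets every member centrally centralises `H`. -/
theorem Setup.centralizes_of_central (S : Setup r α K) {D : Subgroup U} (hD : D ≤ hgen α K)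
    (hn : hgen α K ≤ normalizer (D : Set U))
    (hne : ∀ M ∈ mems α K, ¬ M ≤ D) : D ≤ centralizer (hgen α K : Set U) := by
  have h : hgen α K ≤ centralizer (D : Set U) := sSup_le fun M hM => by
    intro m hm
    refine mem_centralizer_iff.mpr fun d hd => ?_
    have hc : d ∈ centralizer (M : Set U) := by
      refine mem_centralizer_of_central (S.mem_perfect hM) fun x hx => ?_
      have h1 : d * x * d⁻¹ ∈ M := Coprime.conj_mem_of_mem_normalizer
        (S.hgen_normalizes hM (hD hd)) hx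
      have h2 : d * x * d⁻¹ * x⁻¹ ∈ M := mul_mem h1 (inv_mem hx)
      have h3 : d * x * d⁻¹ * x⁻¹ ∈ D := by
        simpa [mul_assoc] using mul_mem hd
          (Coprime.conj_mem_of_mem_normalizer (hn (le_hgen hM hx)) (inv_mem hd))
      exact mem_inf.mpr ⟨h2, (le_or_inf_le_center (S.mem_qs hM)
        ((le_hgen hM).trans hn)).resolve_left (hne M hM) (mem_inf.mpr ⟨h2, h3⟩)⟩
    exact (mem_centralizer_iff.mp hc m hm).symm
  exact le_centralizer_iff.mp h

/-- `H = [H, α]`. -/
theorem Setup.comm_eq [Finite U] (S : Setup r α K) :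
    ⁅(hgen α K).map MulAut.conj, zpowers α⁆ = (hgen α K).map MulAut.conj := by
  set Y := ⁅(hgen α K).map MulAut.conj, zpowers α⁆ with hY
  have hαH : zpowers α ≤ normalizer ((hgen α K).map MulAut.conj : Set (MulAut U)) := by
    refine Coprime.le_normalizer_of_conj_mem fun b hb x hx => ?_
    obtain ⟨h, hh, rfl⟩ := hx
    exact ⟨b h, gam_hgen (mem_sup_left hb) hh, (conj_mul_mul_inv b h).symm⟩
  refine le_antisymm (Thompson.commutator_le_of_le_normalizer hαH) ?_
  set D := Y.comap MulAut.conj ⊓ hgen α K with hD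
  suffices hgen α K ≤ D from map_le_iff_le_comap.mpr (this.trans inf_le_left)
  have hDn : hgen α K ≤ normalizer (D : Set U) := by
    refine Coprime.le_normalizer_of_conj_mem fun h hh d hd => mem_inf.mpr ⟨?_, ?_⟩
    · show MulAut.conj (h * d * h⁻¹) ∈ Y
      rw [map_mul, map_mul, map_inv]
      exact Coprime.conj_mem_of_mem_normalizer
        (le_normalizer_commutator_left _ _ ⟨h, hh, rfl⟩) (mem_inf.mp hd).1
    · exact mul_mem (mul_mem hh (mem_inf.mp hd).2) (inv_mem hh)
  have hgenD : ∀ h ∈ hgen α K, h * (α h)⁻¹ ∈ D := by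
    intro h hh
    refine mem_inf.mpr ⟨?_, mul_mem hh (inv_mem (gam_hgen (self_mem_gam α) hh))⟩
    have e : MulAut.conj (h * (α h)⁻¹) = ⁅MulAut.conj h, α⁆ := by
      rw [map_mul, map_inv, ← conj_mul_mul_inv, commutatorElement_def]
      group
    show MulAut.conj (h * (α h)⁻¹) ∈ Y
    rw [e]
    exact commutator_mem_commutator (mem_map_of_mem _ hh) (mem_zpowers α)
  refine sSup_le fun M hM => ?_
  rcases eq_or_ne (M.map α.toMonoidHom) M with he | hne
  · rcases le_or_inf_le_center (S.mem_qs hM) ((le_hgen hM).trans hDn) with h | h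
    · exact h
    refine absurd (fun m hm => mem_fixA.mpr ?_) (S.mem_moved hM)
    have hα : ∀ x ∈ M, α x ∈ M := fun x hx => he.le ⟨x, hx, rfl⟩
    let g : M →* U := MonoidHom.mk' (fun x => α (x : U) * (x : U)⁻¹) fun x y => by
      have hy : α (y : U) * (y : U)⁻¹ ∈ centralizer (M : Set U) := by
        refine h (mem_inf.mpr ⟨mul_mem (hα _ y.2) (inv_mem y.2), ?_⟩)
        simpa using inv_mem (hgenD _ (le_hgen hM y.2))
      have h1 : (x : U) * (α (y : U) * (y : U)⁻¹) = (α (y : U) * (y : U)⁻¹) * (x : U) :=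
        mem_centralizer_iff.mp hy x x.2
      calc α ((x * y : M) : U) * ((x * y : M) : U)⁻¹
          = α (x : U) * (x : U)⁻¹ * ((x : U) * (α (y : U) * (y : U)⁻¹)) * (x : U)⁻¹ := by
            simp only [Subgroup.coe_mul, map_mul]; group
        _ = _ := by rw [h1]; group
    have hg := eq_one_of_perfect (S.mem_perfect hM) g (fun a b =>
      ((mem_centralizer_iff.mp (h (mem_inf.mpr ⟨mul_mem (hα _ b.2) (inv_mem b.2),
        by simpa using inv_mem (hgenD _ (le_hgen hM b.2))⟩)) _
        (mul_mem (hα _ a.2) (inv_mem a.2))) : _)) ⟨m, hm⟩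
    exact mul_inv_eq_one.mp hg
  · refine perfect_le_of_congr (S.mem_perfect hM) ((le_hgen hM).trans hDn) fun m hm =>
      ⟨α m, ?_, hgenD m (le_hgen hM hm)⟩
    exact S.mem_le_centralizer (map_mem_mems (self_mem_gam α) hM) hM hne ⟨m, hm, rfl⟩

/-- If `H` fixes the fixed points of `α` in an invariant subgroup, it centralises it. -/
theorem Setup.centralizes_sub [Finite U] [Fact r.Prime] (hhs : HHS.{u}) (S : Setup r α K)
    (N : Subgroup U) (hNH : hgen α K ≤ normalizer (N : Set U)) (hNa : ∀ x ∈ N, α x ∈ N)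
    (hfix : ∀ x ∈ N, α x = x → x ∈ centralizer (hgen α K : Set U)) :
    N ≤ centralizer (hgen α K : Set U) := by
  have hyp : Hyp r (1 : MulAut U →* MulAut U) ((hgen α K).map MulAut.conj) α :=
    { norm := Coprime.mem_normalizer_of_le_iff
        (by rintro _ ⟨h, hh, rfl⟩
            exact ⟨α h, gam_hgen (self_mem_gam α) hh, (conj_mul_mul_inv α h).symm⟩)
        (by rintro _ ⟨h, hh, rfl⟩
            refine ⟨α⁻¹ h, gam_hgen (inv_mem (self_mem_gam α)) hh, ?_⟩
            rw [← conj_mul_mul_inv, inv_inv])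
      perf := by rw [← map_commutator, S.hgen_perfect]
      comm := S.comm_eq
      pow := S.pow
      copH := fun h => S.copU ((h.trans (Subgroup.card_map_dvd _ _)).trans
        (card_subgroup_dvd_card _))
      copU := S.copU
      fix := fun _ _ _ _ => rfl }
  have hst : (hgen α K).map MulAut.conj ≤ Stab (MonoidHom.id (MulAut U)) N := by
    rintro _ ⟨h, hh, rfl⟩
    exact mem_stab_of_le fun x hx => Coprime.conj_mem_of_mem_normalizer (hNH hh) hx
  have hy := hyp.pullback hst (mem_stab_of_le hNa) (resHom (MonoidHom.id (MulAut U)) N)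
    (fun h => S.copU (h.trans (card_subgroup_dvd_card N))) (fun g hg x hx => Subtype.ext (by
      obtain ⟨h, hh, e⟩ := hg
      have h1 : α (x : U) = x := congrArg Subtype.val hx
      have h2 := mem_centralizer_iff.mp (hfix x x.2 h1) h hh
      show (g : MulAut U) (x : U) = x
      rw [show (g : MulAut U) = MulAut.conj h from e.symm, MulAut.conj_apply, h2,
        mul_inv_cancel_right]))
  intro x hx
  refine mem_centralizer_iff.mpr fun h hh => ?_
  have := congrArg Subtype.val (claim hhs r (Nat.card N + 1) N (Nat.lt_succ_self _) _ _ _ _ hy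
    ⟨_, hst ⟨h, hh, rfl⟩⟩ ⟨h, hh, rfl⟩ ⟨x, hx⟩)
  simp only [coe_resHom, MonoidHom.id_apply, MulAut.conj_apply] at this
  exact mul_inv_eq_iff_eq_mul.mp this

end Cfsg.Agent.Comp22
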