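import Cfsg.Agent.Comp22.Members

/-!
The position of the images of `K` relative to the components.
-/

set_option autoImplicit false

namespace Cfsg.Agent.Comp22

open Subgroup
open scoped commutatorElement
open Cfsg

universe u

variable {U : Type u} [Group U] [Finite U]

/-- The part of the layer centralising `L`. -/
def cn (L : Subgroup U) : Subgroup U := layer U ⊓ centralizer (L : Set U)

theorem layer_normalizes_cn {L : Subgroup U} (hL : IsComponent L) :
    layer U ≤ normalizer (cn L : Set U) :=
  Coprime.le_normalizer_inf Subgroup.le_normalizer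
    (Coprime.le_normalizer_centralizer (Components.layer_le_normalizer hL))

theorem layer_le_sup_cn {L : Subgroup U} (hL : IsComponent L) : layer U ≤ L ⊔ cn L := by
  refine Components.layer_le_iff.mpr fun L' hL' => ?_
  rcases eq_or_ne L' L with rfl | hne
  · exact le_sup_left
  · exact le_trans (le_inf (Components.component_le_layer hL')
      (Components.component_le_centralizer hL' hL hne)) le_sup_right

theorem exists_decomp {L : Subgroup U} (hL : IsComponent L) {k : U} (hk : k ∈ layer U) :
    ∃ l ∈ L, ∃ z ∈ cn L, k = l * z :=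
  Coprime.exists_mul_of_mem_sup (inf_le_left.trans (Components.layer_le_normalizer hL))
    (layer_le_sup_cn hL hk)

/-- A perfect subgroup of the layer centralising all components but `L` lies in `L`. -/
theorem le_component {K L : Subgroup U} (hK : ⁅K, K⁆ = K) (hKE : K ≤ layer U)
    (hL : IsComponent L)
    (h : ∀ L', IsComponent L' → L' ≠ L → K ≤ centralizer (L' : Set U)) : K ≤ L := by
  let Z := layer U ⊓ centralizer (layer U : Set U)
  have hKZ : K ≤ L ⊔ Z := by
    intro k hk
    obtain ⟨l, hl, z, hz, e⟩ := exists_decomp hL (hKE hk)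
    have hzE : layer U ≤ centralizer ({z} : Set U) := by
      refine Components.layer_le_iff.mpr fun L' hL' x hx => mem_centralizer_singleton_iff.mpr ?_
      rcases eq_or_ne L' L with rfl | hne
      · exact mem_centralizer_iff.mp (mem_inf.mp hz).2 x hx
      · have h1 : x * k = k * x := mem_centralizer_iff.mp (h L' hL' hne hk) x hx
        have h2 : x * l = l * x :=
          mem_centralizer_iff.mp (Components.component_le_centralizer hL hL' (Ne.symm hne) hl) x hx
        have e' : z = l⁻¹ * k := by rw [e, inv_mul_cancel_left]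
        rw [e']
        calc x * (l⁻¹ * k) = l⁻¹ * (l * x) * l⁻¹ * k := by group
          _ = l⁻¹ * (x * k) := by rw [← h2]; group
          _ = l⁻¹ * k * x := by rw [h1]; group
    rw [e]
    exact mul_mem (mem_sup_left hl) (mem_sup_right (mem_inf.mpr ⟨(mem_inf.mp hz).1,
      mem_centralizer_iff.mpr fun x hx => mem_centralizer_singleton_iff.mp (hzE hx)⟩))
  have hZ : ⁅Z, Z⁆ = ⊥ := by
    rw [commutator_eq_bot_iff_le_centralizer]
    exact inf_le_right.trans (centralizer_le inf_le_left)
  calc K = ⁅K, K⁆ := hK.symm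
    _ ≤ ⁅L ⊔ Z, L ⊔ Z⁆ := commutator_mono hKZ hKZ
    _ ≤ L := by
      have hn' : Z ≤ normalizer (L : Set U) :=
        inf_le_left.trans (Components.layer_le_normalizer hL)
      refine (commutator_sup_le hn').trans ?_
      rw [hZ, sup_bot_eq]

/-- The product `l · α l ⋯ α^(n-1) l`. -/
def orbProd (α : MulAut U) (l : U) : ℕ → U
  | 0 => 1
  | n + 1 => orbProd α l n * (α ^ n) l

omit [Finite U] in
theorem orbProd_succ (α : MulAut U) (l : U) (n : ℕ) :
    orbProd α l (n + 1) = l * α (orbProd α l n) := by
  induction n with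
  | zero => simp [orbProd]
  | succ n ih =>
    show orbProd α l (n + 1) * (α ^ (n + 1)) l = l * α (orbProd α l n * (α ^ n) l)
    rw [ih, map_mul, mul_assoc, pow_succ', MulAut.mul_apply]

omit [Finite U] in
theorem orbProd_mem (α : MulAut U) (l : U) (D : Subgroup U) (n : ℕ)
    (h : ∀ i < n, (α ^ i) l ∈ D) : orbProd α l n ∈ D := by
  induction n with
  | zero => exact one_mem D
  | succ n ih =>
    exact mul_mem (ih fun i hi => h i (Nat.lt_succ_of_lt hi)) (h n (Nat.lt_succ_self n))

omit [Finite U] in
theorem component_pow {α : MulAut U} {L : Subgroup U} (hL : IsComponent L) (i : ℕ) :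
    IsComponent (L.map (α ^ i).toMonoidHom) :=
  Components.component_map_equiv (α ^ i) hL

omit [Finite U] in
/-- A power of `α` fixing a subgroup forces `α` to fix it. -/
theorem map_eq_of_pow {r : ℕ} [Fact r.Prime] {α : MulAut U} (hα : α ^ r = 1) {L : Subgroup U}
    {i : ℕ} (hi : ¬ r ∣ i) (h : L.map (α ^ i).toMonoidHom = L) : L.map α.toMonoidHom = L := by
  have hcop : Nat.Coprime i r := ((Fact.out : r.Prime).coprime_iff_not_dvd.mpr hi).symm
  obtain ⟨j, hj⟩ := exists_pow_eq_self_of_coprime
    (x := α) (n := i) (hcop.coprime_dvd_right (orderOf_dvd_of_pow_eq_one hα))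
  have : ∀ m : ℕ, L.map ((α ^ i) ^ m).toMonoidHom = L := by
    intro m
    induction m with
    | zero => rw [pow_zero]; exact map_one_aut L
    | succ m ih => rw [pow_succ, ← map_map_aut, h, ih]
  rw [← hj]
  exact this j

/-- A fixed point of `α` in the layer congruent to a given element of a moved component. -/
theorem exists_orbit_fixed {r : ℕ} [Fact r.Prime] {α : MulAut U} (hα : α ^ r = 1)
    {L : Subgroup U} (hL : IsComponent L) (hmov : L.map α.toMonoidHom ≠ L) {l : U} (hl : l ∈ L) :
    ∃ c ∈ fixA α, c ∈ layer U ∧ l⁻¹ * c ∈ cn L ∧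
      ∀ L', IsComponent L' → (∀ i : ℕ, L.map (α ^ i).toMonoidHom ≠ L') →
        c ∈ centralizer (L' : Set U) := by
  obtain ⟨s, hs⟩ : ∃ s, r = s + 1 := ⟨r - 1, by have := (Fact.out : r.Prime).pos; omega⟩
  have hmemi : ∀ i, (α ^ i) l ∈ L.map (α ^ i).toMonoidHom := fun i => ⟨l, hl, rfl⟩
  have hlay : ∀ i, (α ^ i) l ∈ layer U := fun i =>
    Components.component_le_layer (component_pow hL i) (hmemi i)
  have hne : ∀ i, ¬ r ∣ i → L.map (α ^ i).toMonoidHom ≠ L := fun i hi h =>
    hmov (map_eq_of_pow hα hi h)
  have hrest : α (orbProd α l s) ∈ cn L := by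
    have h1 : orbProd α l s ∈ (cn L).comap α.toMonoidHom := by
      refine orbProd_mem α l _ s fun i hi => ?_
      show α ((α ^ i) l) ∈ cn L
      rw [← MulAut.mul_apply, ← pow_succ']
      refine mem_inf.mpr ⟨hlay _, ?_⟩
      exact Components.component_le_centralizer (component_pow hL _) hL
        (hne _ (fun h => by
          have := Nat.le_of_dvd (Nat.succ_pos i) h
          omega)) (hmemi _)
    exact h1
  have hP : orbProd α l r = l * α (orbProd α l s) := by rw [hs, orbProd_succ]
  have hcomm : l * α (orbProd α l s) = α (orbProd α l s) * l :=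
    mem_centralizer_iff.mp (mem_inf.mp hrest).2 l hl
  refine ⟨orbProd α l r, mem_fixA.mpr ?_, orbProd_mem α l _ r fun i _ => hlay i, ?_, ?_⟩
  · have h1 := orbProd_succ α l r
    rw [orbProd, hα, MulAut.one_apply] at h1
    refine mul_left_cancel (a := l) ?_
    rw [← h1, hP, mul_assoc, ← hcomm]
  · rw [hP, inv_mul_cancel_left]
    exact hrest
  · intro L' hL' hd
    exact orbProd_mem α l _ r fun i _ =>
      Components.component_le_centralizer (component_pow hL i) hL' (hd i) (hmemi i)

end Cfsg.Agent.Comp22
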