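import Cfsg.Agent.Comp22.Main

/-!
The trichotomy and its consequence for layers, for subgroups of an ambient group.
-/

set_option autoImplicit false

namespace Cfsg.Agent.Comp22

open Subgroup
open scoped commutatorElement
open Cfsg

universe u

variable {X : Type u} [Group X] [Finite X]

omit [Finite X] in
theorem isComponent_in_fixed {D K : Subgroup X} (hKD : K ≤ D) (hKq : IsQuasisimple K)
    (hcomm : ∀ g ∈ D, K.map (MulAut.conj g).toMonoidHom ≠ K →
      ⁅K, K.map (MulAut.conj g).toMonoidHom⁆ = ⊥) : IsComponent (K.subgroupOf D) := by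
  refine ⟨?_, Components.isQuasisimple_of_mulEquiv (subgroupOfEquivOfLe hKD).symm hKq⟩
  let K' := K.subgroupOf D
  let M := normalClosure (K' : Set D)
  refine IsSubnormal.step K' M le_normalClosure normalClosure_normal.isSubnormal ?_
  refine normal_subgroupOf_of_le_normalizer ?_
  rw [show M = closure (Group.conjugatesOfSet (K' : Set D)) from rfl, closure_le]
  intro x hx
  obtain ⟨k, hk, hkx⟩ := Group.mem_conjugatesOfSet_iff.mp hx
  obtain ⟨c, rfl⟩ := isConj_iff.mp hkx
  by_cases hc : K.map (MulAut.conj (c : X)).toMonoidHom = K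
  · exact Subgroup.le_normalizer (show c * k * c⁻¹ ∈ K' from hc.le ⟨(k : X), hk, rfl⟩)
  · refine centralizer_le_normalizer _ (mem_centralizer_iff.mpr fun y hy => Subtype.ext ?_)
    exact mem_centralizer_iff.mp
      (commutator_eq_bot_iff_le_centralizer.mp (hcomm c c.2 hc) hy)
      _ ⟨(k : X), hk, rfl⟩ |>.symm

/-- The trichotomy. -/
theorem trichotomy (hhs : HHS.{u}) (G R : Subgroup X) (r : ℕ) [Fact r.Prime]
    (hR : Nat.card ↥R = r) (hcop : (Nat.card ↥G).Coprime r)
    (hnorm : R ≤ normalizer (G : Set X)) (K : Subgroup X) (hKG : K ≤ G) (hKq : IsQuasisimple ↥K)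
    (hcomm : ∀ g ∈ R ⊔ (G ⊓ centralizer (R : Set X)), K.map (MulAut.conj g).toMonoidHom ≠ K →
      ⁅K, K.map (MulAut.conj g).toMonoidHom⁆ = ⊥) :
    (K ≤ G ⊓ centralizer (R : Set X) ∧
      IsComponent (K.subgroupOf (G ⊓ centralizer (R : Set X)))) ∨
    IsComponent (K.subgroupOf G) ∨
    ∃ L : Subgroup X, L ≤ G ∧ IsComponent (L.subgroupOf G) ∧
      (∀ a ∈ R, L.map (MulAut.conj a).toMonoidHom = L) ∧ K ≤ L := by
  by_cases hKC : K ≤ G ⊓ centralizer (R : Set X)
  · exact Or.inl ⟨hKC, isComponent_in_fixed hKC hKq fun g hg => hcomm g (mem_sup_right hg)⟩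
  haveI : IsCyclic R := isCyclic_of_prime_card hR
  obtain ⟨⟨x0, hx0⟩, hgen⟩ := IsCyclic.exists_generator (α := R)
  have hRz : R = zpowers x0 := by
    refine le_antisymm (fun a ha => ?_) (zpowers_le.mpr hx0)
    obtain ⟨i, hi⟩ := mem_zpowers_iff.mp (hgen ⟨a, ha⟩)
    exact ⟨i, congrArg Subtype.val hi⟩
  have hst : ∀ g ∈ R ⊔ G, g ∈ Stab (MulAut.conj : X →* MulAut X) G := fun g hg x =>
    ((mem_normalizer_iff.mp ((sup_le hnorm Subgroup.le_normalizer) hg) x)).symm
  let P := Stab (MulAut.conj : X →* MulAut X) G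
  let res := resHom (MulAut.conj : X →* MulAut X) G
  let α : MulAut G := res ⟨x0, hst x0 (mem_sup_left hx0)⟩
  have hfix : ∀ u : G, u ∈ fixA α → (u : X) ∈ centralizer (R : Set X) := by
    intro u hu
    rw [hRz]
    refine mem_centralizer_iff.mpr fun a ha => ?_
    have h : zpowers x0 ≤ centralizer ({(u : X)} : Set X) := zpowers_le.mpr
      (mem_centralizer_singleton_iff.mpr (mul_inv_eq_iff_eq_mul.mp (congrArg Subtype.val hu)))
    exact mem_centralizer_singleton_iff.mp (h ha)
  have hgam : gam α ≤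
      ((R ⊔ (G ⊓ centralizer (R : Set X))).subgroupOf P).map res := by
    refine sup_le (zpowers_le.mpr ⟨⟨x0, hst x0 (mem_sup_left hx0)⟩, mem_sup_left hx0, rfl⟩) ?_
    rintro _ ⟨c, hc, rfl⟩
    refine ⟨⟨c, hst c (mem_sup_right c.2)⟩,
      mem_sup_right (mem_inf.mpr ⟨c.2, hfix c hc⟩), ?_⟩
    exact DFunLike.ext _ _ fun u => Subtype.ext rfl
  let K' := K.subgroupOf G
  have hmapK : K'.map G.subtype = K := map_subgroupOf_eq_of_le hKG
  have hK'q : IsQuasisimple K' :=
    Components.isQuasisimple_of_mulEquiv (subgroupOfEquivOfLe hKG).symm hKq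
  have hcompat : ∀ (g : P) (L : Subgroup G), (L.map (res g).toMonoidHom).map G.subtype =
      (L.map G.subtype).map (MulAut.conj (g : X)).toMonoidHom := fun g L => by
    rw [Subgroup.map_map, Subgroup.map_map]; rfl
  have S : Setup r α K' :=
    { pow := by
        show res ⟨x0, _⟩ ^ r = 1
        rw [← map_pow, show (⟨x0, hst x0 (mem_sup_left hx0)⟩ : P) ^ r = 1 from Subtype.ext ?_,
          map_one]
        show x0 ^ r = 1
        rw [← hR]
        exact congrArg Subtype.val (pow_card_eq_one' (x := (⟨x0, hx0⟩ : R)))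
      copU := fun h => (Fact.out : r.Prime).coprime_iff_not_dvd.mp hcop.symm h
      qs := hK'q
      comm := by
        intro g hg hne
        obtain ⟨y, hy, rfl⟩ := hgam hg
        refine (map_eq_bot_iff_of_injective _ G.subtype_injective).mp ?_
        rw [map_commutator, hcompat, hmapK]
        refine hcomm y hy fun h => hne (map_injective G.subtype_injective ?_)
        rw [hcompat, hmapK, h]
      moved := fun h => hKC fun k hk => mem_inf.mpr
        ⟨hKG hk, hfix ⟨k, hKG hk⟩ (h (show (⟨k, hKG hk⟩ : G) ∈ K' from hk))⟩ }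
  rcases S.main hhs with h | ⟨L, hL, hLa, hKL⟩
  · exact Or.inr (Or.inl h)
  refine Or.inr (Or.inr ⟨L.map G.subtype, map_subtype_le _, ?_, fun a ha => ?_,
    hmapK ▸ map_mono hKL⟩)
  · rwa [subgroupOf, comap_map_eq_self_of_injective G.subtype_injective]
  · have hx : x0 ∈ normalizer (L.map G.subtype : Set X) := by
      rw [← Components.map_conj_eq_iff_mem_normalizer,
        ← hcompat ⟨x0, hst x0 (mem_sup_left hx0)⟩ L]
      exact congrArg _ hLa
    exact Components.map_conj_eq_iff_mem_normalizer.mpr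
      ((hRz ▸ zpowers_le.mpr hx : R ≤ normalizer (L.map G.subtype : Set X)) ha)

/-- The layer of an invariant subgroup `H = [H, R]` lies in the layer of `G`. -/
theorem layer_le_layer (hhs : HHS.{u}) (G R : Subgroup X) (r : ℕ) [Fact r.Prime]
    (hR : Nat.card ↥R = r) (hcop : (Nat.card ↥G).Coprime r)
    (hnorm : R ≤ normalizer (G : Set X)) (H : Subgroup X) (hHG : H ≤ G)
    (hHinv : R ⊔ (G ⊓ centralizer (R : Set X)) ≤ normalizer (H : Set X)) (hHR : ⁅H, R⁆ = H) :
    (layer ↥H).map H.subtype ≤ (layer ↥G).map G.subtype := by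
  set E := (layer ↥G).map G.subtype with hE
  rw [map_le_iff_le_comap, Components.layer_le_iff]
  have hstep : ∀ K : Subgroup H, IsComponent K →
      K.map H.subtype ≤ E ∨ K.map H.subtype ≤ centralizer (R : Set X) := by
    intro K hK
    have hKG : K.map H.subtype ≤ G := (map_subtype_le _).trans hHG
    have hKq : IsQuasisimple ↥(K.map H.subtype) :=
      Components.isQuasisimple_of_mulEquiv (K.equivMapOfInjective _ H.subtype_injective) hK.2
    have hcomm : ∀ g ∈ R ⊔ (G ⊓ centralizer (R : Set X)),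
        (K.map H.subtype).map (MulAut.conj g).toMonoidHom ≠ K.map H.subtype →
        ⁅K.map H.subtype, (K.map H.subtype).map (MulAut.conj g).toMonoidHom⁆ = ⊥ := by
      intro g hg hne
      have hgst : g ∈ Stab (MulAut.conj : X →* MulAut X) H := fun x =>
        (mem_normalizer_iff.mp (hHinv hg) x).symm
      let f := resHom (MulAut.conj : X →* MulAut X) H ⟨g, hgst⟩
      have e : (K.map f.toMonoidHom).map H.subtype =
          (K.map H.subtype).map (MulAut.conj g).toMonoidHom := by
        rw [Subgroup.map_map, Subgroup.map_map]; rfl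
      rcases Components.component_eq_or_commutator_eq_bot hK
        (Components.component_map_equiv f hK) with h | h
      · exact absurd (by rw [← e, ← h]) hne
      · rw [← e, ← map_commutator, h, Subgroup.map_bot]
    rcases trichotomy hhs G R r hR hcop hnorm _ hKG hKq hcomm with h | h | ⟨L, hLG, hL, -, hKL⟩
    · exact Or.inr (h.1.trans inf_le_right)
    · left
      rw [← map_subgroupOf_eq_of_le hKG]
      exact map_mono (Components.component_le_layer h)
    · left
      refine hKL.trans ?_
      rw [← map_subgroupOf_eq_of_le hLG]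
      exact map_mono (Components.component_le_layer hL)
  intro K hK
  rw [← map_le_iff_le_comap]
  by_contra hKE
  -- every conjugate under `H` is centralised by `R`
  have hall : ∀ h : H, (K.map (MulAut.conj h).toMonoidHom).map H.subtype ≤
      centralizer (R : Set X) := by
    intro h
    refine (hstep _ (Components.component_map_conj h hK)).resolve_left fun hle => hKE ?_
    rintro _ ⟨k, hk, rfl⟩
    obtain ⟨y, hy, hye⟩ := hle ⟨_, ⟨k, hk, rfl⟩, rfl⟩
    let h' : G := ⟨h, hHG h.2⟩
    refine ⟨h'⁻¹ * y * h', ?_, ?_⟩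
    · have := (inferInstance : (layer G).Normal).conj_mem y hy h'⁻¹
      rwa [inv_inv] at this
    · simp only [coe_subtype, MulEquiv.coe_toMonoidHom, MulAut.conj_apply, Subgroup.coe_mul,
        InvMemClass.coe_inv] at hye ⊢
      rw [hye]
      simp [h', mul_assoc]
  let M := (normalClosure (K : Set H)).map H.subtype
  have hMR : M ≤ centralizer (R : Set X) := by
    rw [map_le_iff_le_comap]
    show closure (Group.conjugatesOfSet (K : Set H)) ≤ _
    rw [closure_le]
    intro x hx
    obtain ⟨k, hk, hkx⟩ := Group.mem_conjugatesOfSet_iff.mp hx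
    obtain ⟨c, rfl⟩ := isConj_iff.mp hkx
    exact hall c ⟨_, ⟨k, hk, rfl⟩, rfl⟩
  have hHM : H ≤ normalizer (M : Set X) := Coprime.le_normalizer_of_conj_mem fun h hh x hx => by
    obtain ⟨y, hy, rfl⟩ := hx
    exact ⟨_, normalClosure_normal.conj_mem y hy ⟨h, hh⟩, rfl⟩
  have hRM : R ≤ centralizer (M : Set X) := le_centralizer_iff.mp hMR
  have hH : H ≤ centralizer (M : Set X) := by
    conv_lhs => rw [← hHR]
    refine commutator_le.mpr fun h hh a ha => ?_
    rw [commutatorElement_def]
    exact mul_mem (Coprime.conj_mem_of_mem_normalizer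
      (Coprime.le_normalizer_centralizer hHM hh) (hRM ha)) (inv_mem (hRM ha))
  apply Components.not_isMulCommutative_of_isQuasisimple hK.2
  refine ⟨⟨fun a b => Subtype.ext (Subtype.ext ?_)⟩⟩
  exact mem_centralizer_iff.mp (hH (b : H).2) _ ⟨a, le_normalClosure a.2, rfl⟩

end Cfsg.Agent.Comp22
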